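import Groth.Prelude.Def_ChGrp
import Groth.Agent.FlatLocal.FlatBaseChangeAt
import Mathlib.AlgebraicGeometry.ResidueField
import Mathlib.CategoryTheory.Monoidal.Cartesian.Over

/-!
# Homogeneity: an orbit morphism which is flat at one point is flat
-/

set_option autoImplicit false
set_option linter.style.haveILetI false
set_option backward.isDefEq.respectTransparency.types false
universe u

namespace Groth.Agent.SGA3Homog26
open CategoryTheory CategoryTheory.Limits MonoidalCategory CartesianMonoidalCategory MonObj GrpObj AlgebraicGeometry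

/-- In a cartesian square, if the right edge is flat at the image then the left edge is flat. -/
theorem flat_stalkMap_fst_of_isPullback {P X Y Y' : Scheme.{u}} {a : P ⟶ X} {b : P ⟶ Y'} {f : X ⟶ Y} {g : Y' ⟶ Y}
    (sq : IsPullback a b f g) (z : P) (hg : (g.stalkMap (b z)).hom.Flat) : (a.stalkMap z).hom.Flat := by
  have hb : pullback.snd f g (sq.isoPullback.hom z) = b z := by
    rw [← Scheme.Hom.comp_apply, sq.isoPullback_hom_snd]
  have h := FlatLocal.flat_stalkMap_fst f g (sq.isoPullback.hom z) (hb ▸ hg)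
  have h2 := (Desc19b.flat_stalkMap_comp_iff sq.isoPullback.hom (pullback.fst f g) z (Flat.stalkMap _ z)).mpr h
  exact sq.isoPullback_hom_fst ▸ h2

/-- Flatness at a point descends along a flat base change. -/
theorem flat_stalkMap_of_isPullback {P X Y Y' : Scheme.{u}} {a : P ⟶ X} {b : P ⟶ Y'} {f : X ⟶ Y} {g : Y' ⟶ Y}
    (sq : IsPullback a b f g) [Flat g] (z : P) (hb : (b.stalkMap z).hom.Flat) : (f.stalkMap (a z)).hom.Flat := by
  have h2 : ((sq.isoPullback.hom ≫ pullback.snd f g).stalkMap z).hom.Flat := sq.isoPullback_hom_snd.symm ▸ hb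
  have h3 := (Desc19b.flat_stalkMap_comp_iff sq.isoPullback.hom (pullback.snd f g) z (Flat.stalkMap _ z)).mp h2
  have h4 := FlatLocal.flat_stalkMap_of_baseChange f g _ (Flat.stalkMap g _) h3
  have ha : pullback.fst f g (sq.isoPullback.hom z) = a z := by
    rw [← Scheme.Hom.comp_apply, sq.isoPullback_hom_fst]
  exact ha ▸ h4

section

variable {S : Scheme.{u}} {G X : Over S} [GrpObj G]

theorem isPullback_whiskerRight {A B : Over S} (φ : A ⟶ B) (C : Over S) :
    IsPullback (φ ▷ C).left (fst A C).left (fst B C).left φ.left := by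
  have t : IsPullback (snd B C).left (fst B C).left C.hom B.hom := (IsPullback.of_hasPullback B.hom C.hom).flip
  have h : IsPullback ((φ ▷ C).left ≫ (snd B C).left) (fst A C).left C.hom (φ.left ≫ B.hom) := by
    rw [← Over.comp_left, whiskerRight_snd, Over.w]
    exact (IsPullback.of_hasPullback A.hom C.hom).flip
  refine IsPullback.of_right h ?_ t
  rw [← Over.comp_left, ← Over.comp_left, whiskerRight_fst]

/-- An orbit morphism of a flat group over a one-point base which is flat at one point is flat. -/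
theorem flat_orbitMap [Subsingleton S] [Flat G.hom] (a : AlgGrp.Action G X) (s₀ : 𝟙_ (Over S) ⟶ X)
    (h : ∃ g : G.left, ((a.orbitMap s₀).left.stalkMap g).hom.Flat) : Flat (a.orbitMap s₀).left := by
  obtain ⟨x, hx⟩ := h
  let φ := a.orbitMap s₀
  have sq := isPullback_whiskerRight φ G
  haveI : Flat (fst X G).left := MorphismProperty.pullback_fst (P := @Flat) X.hom G.hom ‹Flat G.hom›
  haveI : Flat (fst G G).left := MorphismProperty.pullback_fst (P := @Flat) G.hom G.hom ‹Flat G.hom›
  let σ : G ⊗ G ⟶ G ⊗ G := lift (snd G G * fst G G) (snd G G)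
  let τ : X ⊗ G ⟶ X ⊗ G := lift (lift (snd X G) (fst X G) ≫ a.act) (snd X G)
  haveI : IsIso σ := by
    refine ⟨lift ((snd G G)⁻¹ * fst G G) (snd G G), ?_, ?_⟩ <;>
      ext1 <;> simp [σ, MonObj.comp_mul, GrpObj.comp_inv]
  haveI : IsIso τ := by
    refine ⟨lift (lift (snd X G)⁻¹ (fst X G) ≫ a.act) (snd X G), ?_, ?_⟩ <;>
      ext1 <;> simp only [τ, Category.assoc, Category.id_comp, lift_fst, lift_snd, comp_lift, comp_lift_assoc,
        GrpObj.comp_inv] <;>
      rw [← AlgGrp.Action.lift_mul_act] <;> simp [AlgGrp.Action.lift_one_act]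
  have comm : (φ ▷ G) ≫ τ = σ ≫ (φ ▷ G) := by
    ext1
    · simp only [τ, σ, φ, Category.assoc, lift_fst, comp_lift_assoc, comp_lift, whiskerRight_fst, whiskerRight_snd,
        AlgGrp.Action.comp_orbitMap, AlgGrp.Action.lift_mul_act, comp_toUnit_assoc]
    · simp [τ, σ]
  haveI : IsIso σ.left := inferInstanceAs (IsIso ((Over.forget S).map σ))
  haveI : IsIso τ.left := inferInstanceAs (IsIso ((Over.forget S).map τ))
  refine Flat.of_stalkMap _ fun g => ?_
  obtain ⟨z, hz1, hz2⟩ := Scheme.Pullback.exists_preimage_pullback (f := G.hom) (g := G.hom) x g (Subsingleton.elim _ _)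
  let T : Over S := Over.mk ((G ⊗ G).left.fromSpecResidueField z ≫ (G ⊗ G).hom)
  let q : T ⟶ G ⊗ G := Over.homMk ((G ⊗ G).left.fromSpecResidueField z) rfl
  let p : T.left := IsLocalRing.closedPoint _
  let w' : T ⟶ G ⊗ G := lift (q ≫ fst G G) ((q ≫ snd G G) * (q ≫ fst G G)⁻¹)
  let w : (G ⊗ G).left := w'.left p
  have hqp : q.left p = z := Scheme.fromSpecResidueField_apply _ _
  have hw1 : (fst G G).left w = x := by
    have e : w' ≫ fst G G = q ≫ fst G G := lift_fst _ _
    show (w' ≫ fst G G).left p = x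
    rw [e]
    show (fst G G).left (q.left p) = x
    rw [hqp]; exact hz1
  have hw2 : (fst G G).left (σ.left w) = g := by
    have e : w' ≫ σ ≫ fst G G = q ≫ snd G G := by
      simp [w', σ, MonObj.comp_mul]
    show (w' ≫ σ ≫ fst G G).left p = g
    rw [e]
    show (snd G G).left (q.left p) = g
    rw [hqp]; exact hz2
  have h1 : ((φ ▷ G).left.stalkMap w).hom.Flat := flat_stalkMap_fst_of_isPullback sq w (hw1.symm ▸ hx)
  have h2 : (((φ ▷ G).left ≫ τ.left).stalkMap w).hom.Flat :=
    (Desc19b.flat_stalkMap_comp_iff _ τ.left w h1).mpr (Flat.stalkMap _ _)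
  rw [show (φ ▷ G).left ≫ τ.left = σ.left ≫ (φ ▷ G).left from congrArg CommaMorphism.left comm] at h2
  have h3 := (Desc19b.flat_stalkMap_comp_iff σ.left _ w (Flat.stalkMap _ w)).mp h2
  have h4 := flat_stalkMap_of_isPullback sq.flip (σ.left w) h3
  exact hw2 ▸ h4

end

end Groth.Agent.SGA3Homog26
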