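import Groth.Agent.SGA3Homog26.AlgClosed
import Groth.Agent.SGA3Homog26.FlatOrbit
import Groth.Agent.SGA3UnitSec.KernelPair
import Groth.Agent.Desc19.Topology
import Groth.Agent.AlgSpLib.FppfSource
import Mathlib.AlgebraicGeometry.Morphisms.LocalFlatDescent
import Mathlib.AlgebraicGeometry.Morphisms.SmoothFiber
import Mathlib.AlgebraicGeometry.Morphisms.QuasiFinite
import Mathlib.FieldTheory.IsAlgClosed.AlgebraicClosure

/-!
# Homogeneity over an artinian base
-/

set_option autoImplicit false
set_option linter.style.haveILetI false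
set_option backward.isDefEq.respectTransparency.types false
universe u

namespace Groth.Agent.SGA3Homog26
open CategoryTheory CategoryTheory.Limits MonoidalCategory CartesianMonoidalCategory MonObj GrpObj AlgebraicGeometry

theorem fibre_descends (P : MorphismProperty Scheme.{u}) [P.IsStableUnderBaseChange]
    [P.DescendsAlong (@Surjective ⊓ @Flat ⊓ @QuasiCompact)] {G' G H' H : Scheme.{u}} {a : G' ⟶ G} {u' : G' ⟶ H'}
    {u : G ⟶ H} {c : H' ⟶ H} (sq : IsPullback a u' u c) [Surjective c] (h : P u') (y : H) :
    P (u.fiberToSpecResidueField y) := by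
  obtain ⟨y', rfl⟩ := c.surjective y
  let q := Spec.map (c.residueFieldMap y')
  have hq : q ≫ H.fromSpecResidueField (c y') = H'.fromSpecResidueField y' ≫ c := by simp [q]
  have sq1 : IsPullback (pullback.fst (u.fiberToSpecResidueField (c y')) q ≫ u.fiberι (c y'))
      (pullback.snd (u.fiberToSpecResidueField (c y')) q) u (H'.fromSpecResidueField y' ≫ c) := by
    rw [← hq]
    exact (IsPullback.of_hasPullback _ q).paste_horiz (IsPullback.of_hasPullback u (H.fromSpecResidueField (c y')))
  have h1 : P (pullback.snd (u.fiberToSpecResidueField (c y')) q) :=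
    MorphismProperty.of_isPullback (IsPullback.of_right' sq1 sq) h
  haveI : Surjective q := ⟨fun z => ⟨IsLocalRing.closedPoint _, Subsingleton.elim _ _⟩⟩
  haveI : Flat q := by
    rw [HasRingHomProperty.Spec_iff (P := @Flat)]
    letI := (c.residueFieldMap y').hom.toAlgebra
    exact RingHom.flat_algebraMap_iff.2 inferInstance
  exact MorphismProperty.of_pullback_snd_of_descendsAlong (Q := @Surjective ⊓ @Flat ⊓ @QuasiCompact)
    ⟨⟨inferInstance, inferInstance⟩, inferInstance⟩ h1

theorem lqf_descends {G' G H' H : Scheme.{u}} {a : G' ⟶ G} {u' : G' ⟶ H'} {u : G ⟶ H} {c : H' ⟶ H}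
    (sq : IsPullback a u' u c) [Surjective c] [LocallyOfFiniteType u] [LocallyQuasiFinite u'] :
    LocallyQuasiFinite u := by
  rw [locallyQuasiFinite_iff_isDiscrete_preimage_singleton]
  intro y
  obtain ⟨y', rfl⟩ := c.surjective y
  let q := Spec.map (c.residueFieldMap y')
  have hq : q ≫ H.fromSpecResidueField (c y') = H'.fromSpecResidueField y' ≫ c := by simp [q]
  have sq1 : IsPullback (pullback.fst (u.fiberToSpecResidueField (c y')) q ≫ u.fiberι (c y'))
      (pullback.snd (u.fiberToSpecResidueField (c y')) q) u (H'.fromSpecResidueField y' ≫ c) := by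
    rw [← hq]
    exact (IsPullback.of_hasPullback _ q).paste_horiz (IsPullback.of_hasPullback u (H.fromSpecResidueField (c y')))
  let Z := pullback (u.fiberToSpecResidueField (c y')) q
  haveI : LocallyQuasiFinite (pullback.snd (u.fiberToSpecResidueField (c y')) q) :=
    MorphismProperty.of_isPullback (IsPullback.of_right' sq1 sq) ‹_›
  haveI : DiscreteTopology Z := by
    rw [← isDiscrete_univ_iff]
    have := (pullback.snd (u.fiberToSpecResidueField (c y')) q).isDiscrete_preimage
      (isDiscrete_univ_iff.2 (inferInstance : DiscreteTopology (Spec (H'.residueField y'))))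
    rwa [Set.preimage_univ] at this
  haveI : UniversallyOpen q := Groth.Agent.Desc19.universallyOpen_of_subsingleton q
  haveI : Surjective q := ⟨fun z => ⟨IsLocalRing.closedPoint _, Subsingleton.elim _ _⟩⟩
  let p := pullback.fst (u.fiberToSpecResidueField (c y')) q
  have hp : IsOpenMap p := p.isOpenMap
  haveI : DiscreteTopology (u.fiber (c y')) := by
    rw [discreteTopology_iff_isOpen_singleton]
    intro w
    rw [← Set.image_preimage_eq {w} (Scheme.Hom.surjective p)]
    exact hp _ (isOpen_discrete _)
  rw [← u.range_fiberι (c y'), ← Set.image_univ]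
  exact (isDiscrete_univ_iff.2 inferInstance).image (u.fiberι (c y')).isEmbedding.toIsInducing

/-- Properties local at the source and stable under base change hold after extension to an algebraic
closure of the residue field of a one-point base. -/
theorem exists_geom_pullback (A : Type u) [CommRing A] [IsLocalRing A]
    [Subsingleton ↥(Spec (CommRingCat.of A))] {G H : Over (Spec (CommRingCat.of A))} [GrpObj G] [GrpObj H]
    [LocallyOfFiniteType G.hom] (u : G ⟶ H) [IsMonHom u] (W : G.left.Opens) (hW : (W : Set G.left).Nonempty) :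
    ∃ (G' H' : Scheme.{u}) (a : G' ⟶ G.left) (u' : G' ⟶ H') (c : H' ⟶ H.left),
      IsPullback a u' u.left c ∧ Surjective c ∧ ∀ (P : MorphismProperty Scheme.{u}) [IsZariskiLocalAtSource P]
        [P.IsStableUnderBaseChange], P (W.ι ≫ u.left) → P u' := by
  let k := AlgebraicClosure (IsLocalRing.ResidueField A)
  let f : Spec (CommRingCat.of k) ⟶ Spec (CommRingCat.of A) :=
    Spec.map (CommRingCat.ofHom ((algebraMap (IsLocalRing.ResidueField A) k).comp (IsLocalRing.residue A)))
  haveI : Surjective f := ⟨fun z => ⟨IsLocalRing.closedPoint k, Subsingleton.elim _ _⟩⟩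
  letI : GrpObj ((Over.pullback f).obj G) := Functor.grpObjObj
  letI : GrpObj ((Over.pullback f).obj H) := Functor.grpObjObj
  haveI : LocallyOfFiniteType ((Over.pullback f).obj G).hom :=
    MorphismProperty.pullback_snd (P := @LocallyOfFiniteType) G.hom f inferInstance
  haveI : Surjective (pullback.fst G.hom f) := MorphismProperty.pullback_fst (P := @Surjective) G.hom f inferInstance
  refine ⟨_, _, pullback.fst G.hom f, ((Over.pullback f).map u).left, pullback.fst H.hom f,
    SGA3UnitSec.isPullback_map_left f u, MorphismProperty.pullback_fst (P := @Surjective) H.hom f inferInstance,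
    fun P _ _ h => ?_⟩
  refine of_open_algClosed P k _ _ ((Over.pullback f).map u) (pullback.fst G.hom f ⁻¹ᵁ W) ?_ ?_
  · obtain ⟨w, hw⟩ := hW
    obtain ⟨z, hz⟩ := (pullback.fst G.hom f).surjective w
    exact ⟨z, show pullback.fst G.hom f z ∈ W from hz.symm ▸ hw⟩
  · exact MorphismProperty.of_isPullback
      ((isPullback_morphismRestrict (pullback.fst G.hom f) W).paste_vert (SGA3UnitSec.isPullback_map_left f u)) h

/-- Local finite presentation spreads from a non-empty open subscheme. -/
theorem lfp_hom_of_open {S : Scheme.{u}} [Subsingleton S] [IsLocallyNoetherian S] {G H : Over S} [GrpObj G] [GrpObj H]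
    [Flat G.hom] [LocallyOfFiniteType G.hom] (u : G ⟶ H) [IsMonHom u] (W : G.left.Opens)
    (hW : (W : Set G.left).Nonempty) (h : LocallyOfFinitePresentation (W.ι ≫ u.left)) :
    LocallyOfFinitePresentation u.left := by
  haveI : LocallyOfFinitePresentation G.hom := ⟨fun {U} hU {V} hV e => by
    have : IsNoetherianRing Γ(S, U) := IsLocallyNoetherian.component_noetherian ⟨U, hU⟩
    algebraize [(G.hom.appLE U V e).hom]
    have := G.hom.finiteType_appLE hU hV e
    exact Algebra.FinitePresentation.of_finiteType.1 this⟩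
  haveI : LocallyOfFinitePresentation (fst H G).left :=
    MorphismProperty.pullback_fst (P := @LocallyOfFinitePresentation) H.hom G.hom ‹_›
  haveI : Flat (fst G G).left := MorphismProperty.pullback_fst (P := @Flat) G.hom G.hom ‹Flat G.hom›
  haveI : LocallyOfFinitePresentation (fst G G).left :=
    MorphismProperty.pullback_fst (P := @LocallyOfFinitePresentation) G.hom G.hom ‹_›
  let σ : G ⊗ G ⟶ G ⊗ G := lift (snd G G * fst G G) (snd G G)
  let τ : H ⊗ G ⟶ H ⊗ G := lift ((snd H G ≫ u) * fst H G) (snd H G)
  haveI : IsIso σ := by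
    refine ⟨lift ((snd G G)⁻¹ * fst G G) (snd G G), ?_, ?_⟩ <;>
      ext1 <;> simp [σ, MonObj.comp_mul, GrpObj.comp_inv]
  haveI : IsIso τ := by
    refine ⟨lift ((snd H G ≫ u)⁻¹ * fst H G) (snd H G), ?_, ?_⟩ <;>
      ext1 <;> simp [τ, MonObj.comp_mul, GrpObj.comp_inv]
  haveI : IsIso σ.left := inferInstanceAs (IsIso ((Over.forget S).map σ))
  haveI : IsIso τ.left := inferInstanceAs (IsIso ((Over.forget S).map τ))
  have comm : σ ≫ fst G G ≫ u = (u ▷ G) ≫ τ ≫ fst H G := by
    simp [σ, τ, MonObj.mul_comp, MonObj.comp_mul]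
  let O := (fst G G).left ⁻¹ᵁ W
  let g := O.ι ≫ σ.left ≫ (fst G G).left
  haveI : Surjective g := by
    refine ⟨fun y => ?_⟩
    obtain ⟨w, hw⟩ := hW
    obtain ⟨z, hz1, hz2⟩ := Scheme.Pullback.exists_preimage_pullback (f := G.hom) (g := G.hom) w y (Subsingleton.elim _ _)
    let T : Over S := Over.mk ((G ⊗ G).left.fromSpecResidueField z ≫ (G ⊗ G).hom)
    let q : T ⟶ G ⊗ G := Over.homMk ((G ⊗ G).left.fromSpecResidueField z) rfl
    let p : T.left := IsLocalRing.closedPoint _
    let p' : T ⟶ G ⊗ G := lift (q ≫ fst G G) ((q ≫ snd G G) * (q ≫ fst G G)⁻¹)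
    have hqp : q.left p = z := Scheme.fromSpecResidueField_apply _ _
    have h1 : (fst G G).left (p'.left p) = w := by
      have e : p' ≫ fst G G = q ≫ fst G G := lift_fst _ _
      show (p' ≫ fst G G).left p = w
      rw [e]
      show (fst G G).left (q.left p) = w
      rw [hqp]; exact hz1
    refine ⟨⟨p'.left p, show (fst G G).left (p'.left p) ∈ W from h1.symm ▸ hw⟩, ?_⟩
    show (p' ≫ σ ≫ fst G G).left p = y
    have e : p' ≫ σ ≫ fst G G = q ≫ snd G G := by
      simp [p', σ, MonObj.comp_mul]
    rw [e]
    show (snd G G).left (q.left p) = y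
    rw [hqp]; exact hz2
  haveI : LocallyOfFinitePresentation (O.ι ≫ (u ▷ G).left) :=
    MorphismProperty.of_isPullback
      ((isPullback_morphismRestrict (fst G G).left W).paste_vert (isPullback_whiskerRight u G).flip) h
  refine AlgSpLib.lfp_of_comp_fppf g u.left ?_
  have e : g ≫ u.left = (O.ι ≫ (u ▷ G).left) ≫ τ.left ≫ (fst H G).left := by
    have := congrArg CommaMorphism.left comm
    simp only [Over.comp_left] at this
    simp only [g, Category.assoc, this]
  rw [e]
  infer_instance

end Groth.Agent.SGA3Homog26
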