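import Mathlib.RingTheory.Spectrum.Prime.Chevalley
import Mathlib.RingTheory.TensorProduct.Free
import Mathlib.RingTheory.FiniteType
import Mathlib.RingTheory.Localization.Away.Basic
import Mathlib.LinearAlgebra.Basis.VectorSpace

/-!
# Finite type descends from an open piece of a base change along a field extension
-/

set_option autoImplicit false
set_option linter.style.haveILetI false
set_option backward.isDefEq.respectTransparency.types false
universe u

namespace Groth.Agent.SGA3Homog26
open TensorProduct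

variable {k K R : Type u} [Field k] [Field K] [Algebra k K] [CommRing R] [Algebra k R]

theorem repr_map {ι : Type*} (b : Module.Basis ι k K) (R₁ : Subalgebra k R) (x : R₁ ⊗[k] K) (l : ι) :
    (Algebra.TensorProduct.basis R b).repr (Algebra.TensorProduct.map R₁.val (AlgHom.id k K) x) l =
      ((Algebra.TensorProduct.basis R₁ b).repr x l : R) := by
  induction x using TensorProduct.induction_on with
  | tmul a m =>
    rw [Algebra.TensorProduct.map_tmul, Algebra.TensorProduct.basis_repr_tmul, Algebra.TensorProduct.basis_repr_tmul]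
    simp
  | add x y hx hy => simp [hx, hy]
  | zero => simp

/-- A tensor lies in `R₁ ⊗ K` exactly when its coordinates lie in `R₁`. -/
theorem mem_range_iff {ι : Type*} (b : Module.Basis ι k K) (R₁ : Subalgebra k R) (x : R ⊗[k] K) :
    x ∈ (Algebra.TensorProduct.map R₁.val (AlgHom.id k K)).range ↔
      ∀ l, (Algebra.TensorProduct.basis R b).repr x l ∈ R₁ := by
  refine ⟨?_, fun h => ?_⟩
  · rintro ⟨z, rfl⟩ l
    rw [show ((Algebra.TensorProduct.map R₁.val (AlgHom.id k K)).toRingHom z) =
      Algebra.TensorProduct.map R₁.val (AlgHom.id k K) z from rfl, repr_map]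
    exact Subtype.prop _
  · rw [← (Algebra.TensorProduct.basis R b).linearCombination_repr x, Finsupp.linearCombination_apply, Finsupp.sum]
    refine sum_mem fun l _ => ⟨(⟨_, h l⟩ : R₁) ⊗ₜ b l, ?_⟩
    show Algebra.TensorProduct.map R₁.val (AlgHom.id k K) _ = _
    rw [Algebra.TensorProduct.map_tmul, Algebra.TensorProduct.basis_apply, TensorProduct.smul_tmul']
    simp

/-- If a standard open piece of `R ⊗ K` is of finite type over the field `K`, then `R` is of finite
type over `k` near every point over which this piece lies. -/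
theorem exists_away_finiteType (f : R ⊗[k] K) (q : Ideal (R ⊗[k] K)) [q.IsPrime] (hf : f ∉ q)
    (hT : ((algebraMap (R ⊗[k] K) (Localization.Away f)).comp
      (Algebra.TensorProduct.includeRight : K →ₐ[k] R ⊗[k] K).toRingHom).FiniteType) :
    ∃ r : R, r ⊗ₜ[k] (1 : K) ∉ q ∧ Algebra.FiniteType k (Localization.Away r) := by
  classical
  let T := Localization.Away f
  let a := algebraMap (R ⊗[k] K) T
  letI : Algebra K T := (a.comp (Algebra.TensorProduct.includeRight : K →ₐ[k] R ⊗[k] K).toRingHom).toAlgebra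
  haveI : Algebra.FiniteType K T := hT
  obtain ⟨s, hs⟩ := Algebra.FiniteType.out (R := K) (A := T)
  have hnum : ∀ t : T, ∃ (g : R ⊗[k] K) (n : ℕ), t * a f ^ n = a g := by
    intro t
    obtain ⟨⟨g, ⟨_, n, rfl⟩⟩, hg⟩ := IsLocalization.surj (Submonoid.powers f) t
    exact ⟨g, n, by simpa [a] using hg⟩
  choose g N hg using hnum
  let b := Module.Free.chooseBasis k K
  let B := Algebra.TensorProduct.basis R b
  let gens : Finset R := (insert f (s.image g)).biUnion fun x => (B.repr x).support.image (B.repr x)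
  let R₁ := Algebra.adjoin k (gens : Set R)
  haveI : Algebra.FiniteType k R₁ := (Subalgebra.fg_iff_finiteType _).1 (Subalgebra.fg_adjoin_finset _)
  let j := Algebra.TensorProduct.map R₁.val (AlgHom.id k K)
  have hgen : ∀ x ∈ insert f (s.image g), x ∈ j.range := by
    intro x hx
    rw [mem_range_iff b]
    intro l
    by_cases hl : l ∈ (B.repr x).support
    · exact Algebra.subset_adjoin (Finset.mem_biUnion.2 ⟨x, hx, Finset.mem_image.2 ⟨l, hl, rfl⟩⟩)
    · rw [Finsupp.notMem_support_iff.1 hl]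
      exact zero_mem _
  have hfj : f ∈ j.range := hgen f (Finset.mem_insert_self _ _)
  have hall : ∀ t : T, ∃ (n : ℕ), ∃ z ∈ j.range, t * a f ^ n = a z := by
    intro t
    have ht : t ∈ Algebra.adjoin K (s : Set T) := hs ▸ Algebra.mem_top
    induction ht using Algebra.adjoin_induction with
    | mem x hx => exact ⟨N x, g x, hgen _ (Finset.mem_insert_of_mem (Finset.mem_image_of_mem g hx)), hg x⟩
    | algebraMap c =>
      refine ⟨0, (1 : R) ⊗ₜ c, ⟨(1 : R₁) ⊗ₜ c, ?_⟩, ?_⟩
      · show j ((1 : R₁) ⊗ₜ c) = _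
        simp [j]
      · rw [pow_zero, _root_.mul_one]; rfl
    | add x y _ _ hx hy =>
      obtain ⟨n, z, hz, e⟩ := hx
      obtain ⟨m, w, hw, e'⟩ := hy
      refine ⟨n + m, z * f ^ m + w * f ^ n, add_mem (mul_mem hz (pow_mem hfj m)) (mul_mem hw (pow_mem hfj n)), ?_⟩
      simp only [map_add, map_mul, map_pow, ← e, ← e', pow_add]
      ring
    | mul x y _ _ hx hy =>
      obtain ⟨n, z, hz, e⟩ := hx
      obtain ⟨m, w, hw, e'⟩ := hy
      exact ⟨n + m, z * w, mul_mem hz hw, by simp only [map_mul, ← e, ← e', pow_add]; ring⟩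
  obtain ⟨f₁, hf₁'⟩ := hfj
  have hf₁ : j f₁ = f := hf₁'
  let φ : R₁ →+* R₁ ⊗[k] K := algebraMap R₁ (R₁ ⊗[k] K)
  let U := PrimeSpectrum.comap φ '' (PrimeSpectrum.basicOpen f₁ : Set (PrimeSpectrum (R₁ ⊗[k] K)))
  have hUo : IsOpen U := PrimeSpectrum.isOpenMap_comap_algebraMap_tensorProduct_of_field _
    (PrimeSpectrum.basicOpen f₁).isOpen
  let q₁ : PrimeSpectrum (R₁ ⊗[k] K) := ⟨q.comap j.toRingHom, inferInstance⟩
  have hp₁ : PrimeSpectrum.comap φ q₁ ∈ U := ⟨q₁, show j f₁ ∉ q from hf₁.symm ▸ hf, rfl⟩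
  obtain ⟨_, ⟨r, rfl⟩, hrp, hrU⟩ :=
    PrimeSpectrum.isTopologicalBasis_basic_opens.exists_subset_of_mem_open hp₁ hUo
  have hrq : (r : R) ⊗ₜ[k] (1 : K) ∉ q := by
    have h2 : j (φ r) ∉ q := hrp
    rwa [show j (φ r) = (r : R) ⊗ₜ[k] (1 : K) by simp [j, φ]] at h2
  refine ⟨r, hrq, ?_⟩
  -- every element of `R` lies in `R₁[1/r]`
  have key : ∀ x : R, ∃ m : ℕ, (r : R) ^ m * x ∈ R₁ := by
    intro x
    obtain ⟨n, z, hz, e⟩ := hall (a (x ⊗ₜ 1))
    rw [← map_pow, ← map_mul] at e
    obtain ⟨⟨_, m, rfl⟩, hm⟩ := IsLocalization.exists_of_eq (M := Submonoid.powers f) e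
    have hmem : x • f ^ (n + m) ∈ j.range := by
      have h1 : f ^ m * ((x ⊗ₜ 1) * f ^ n) = x • f ^ (n + m) := by
        rw [Algebra.smul_def, Algebra.TensorProduct.algebraMap_apply, pow_add]
        simp only [Algebra.algebraMap_self, RingHom.id_apply]
        ring
      rw [← h1]
      exact (show f ^ m * _ = f ^ m * z from hm) ▸ mul_mem (pow_mem (show f ∈ j.range from ⟨f₁, hf₁'⟩) m) hz
    let J : Ideal R₁ := 
      { carrier := {c : R₁ | (c : R) * x ∈ R₁}
        add_mem' := fun {c d} hc hd => by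
          show ((c + d : R₁) : R) * x ∈ R₁
          rw [Subalgebra.coe_add, add_mul]; exact add_mem hc hd
        zero_mem' := by
          show ((0 : R₁) : R) * x ∈ R₁
          simp
        smul_mem' := fun c d hd => by
          show ((c * d : R₁) : R) * x ∈ R₁
          rw [Subalgebra.coe_mul, mul_assoc]; exact mul_mem c.2 hd }
    have hJ : r ∈ J.radical := by
      rw [Ideal.radical_eq_sInf, Ideal.mem_sInf]
      rintro P ⟨hJP, hP⟩
      by_contra hrP
      obtain ⟨Q, hQf, hQP⟩ := hrU (show (⟨P, hP⟩ : PrimeSpectrum R₁) ∈ _ from hrP)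
      refine hQf (Q.isPrime.mem_of_pow_mem (n + m) ?_)
      rw [← (Algebra.TensorProduct.basis R₁ b).linearCombination_repr (f₁ ^ (n + m)),
        Finsupp.linearCombination_apply, Finsupp.sum]
      refine Ideal.sum_mem _ fun l _ => ?_
      rw [Algebra.smul_def]
      refine Ideal.mul_mem_right _ _ ?_
      have hc : (Algebra.TensorProduct.basis R₁ b).repr (f₁ ^ (n + m)) l ∈ J := by
        show _ * x ∈ R₁
        rw [← repr_map b R₁, map_pow, show Algebra.TensorProduct.map R₁.val (AlgHom.id k K) f₁ = f from hf₁]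
        have h3 := (mem_range_iff b R₁ _).1 hmem l
        rwa [map_smul, Finsupp.smul_apply, smul_eq_mul, mul_comm] at h3
      have h4 := hJP hc
      rw [← show (PrimeSpectrum.comap φ Q).asIdeal = P from congrArg PrimeSpectrum.asIdeal hQP] at h4
      exact h4
    obtain ⟨m', hm'⟩ := hJ
    exact ⟨m', by have : ((r ^ m' : R₁) : R) * x ∈ R₁ := hm'; simpa using this⟩
  constructor
  let L := Localization.Away (r : R)
  let i : R →ₐ[k] L := IsScalarTower.toAlgHom k R L
  refine ⟨(gens.image i) ∪ {IsLocalization.Away.invSelf (r : R)}, top_unique fun t _ => ?_⟩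
  let A := Algebra.adjoin k (((gens.image i) ∪ {IsLocalization.Away.invSelf (r : R)} : Finset L) : Set L)
  have hinv : IsLocalization.Away.invSelf (r : R) ∈ A := Algebra.subset_adjoin (by simp)
  have hR₁ : ∀ c ∈ R₁, i c ∈ A := by
    intro c hc
    have : R₁.map i ≤ A := by
      rw [AlgHom.map_adjoin]
      exact Algebra.adjoin_mono (by simp)
    exact this ⟨c, hc, rfl⟩
  obtain ⟨⟨x, ⟨_, n, rfl⟩⟩, hx⟩ := IsLocalization.surj (Submonoid.powers (r : R)) t
  obtain ⟨m, hm⟩ := key x
  have hr : i r * IsLocalization.Away.invSelf (r : R) = 1 := IsLocalization.Away.mul_invSelf _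
  have e : t = i ((r : R) ^ m * x) * IsLocalization.Away.invSelf (r : R) ^ (m + n) := by
    have hx' : t * i r ^ n = i x := by rw [← map_pow]; exact hx
    rw [map_mul, map_pow, ← hx', show i r ^ m * (t * i r ^ n) = t * i r ^ (m + n) by ring, mul_assoc, ← mul_pow, hr,
      one_pow, _root_.mul_one]
  rw [e]
  exact mul_mem (hR₁ _ hm) (pow_mem hinv _)

end Groth.Agent.SGA3Homog26
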