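import Groth.Agent.SGA3Homog26.AlgClosed
import Groth.Agent.SGA3Homog26.FTDescent
import Groth.Agent.SGA3UnitSec.KernelPair
import Mathlib.RingTheory.TensorProduct.Finite
import Mathlib.AlgebraicGeometry.Morphisms.Finite

/-!
# A group scheme with a non-empty open of finite type is locally of finite type
-/

set_option autoImplicit false
set_option linter.style.haveILetI false
set_option backward.isDefEq.respectTransparency.types false
universe u

namespace Groth.Agent.SGA3Homog26
open CategoryTheory CategoryTheory.Limits MonoidalCategory CartesianMonoidalCategory MonObj GrpObj AlgebraicGeometry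
open TensorProduct

/-- Around every point of a scheme there is an affine chart. -/
theorem exists_chart {X : Scheme.{u}} (x : X) :
    ∃ (R : CommRingCat.{u}) (i : Spec R ⟶ X), IsOpenImmersion i ∧ x ∈ Set.range i := by
  obtain ⟨U, hU, hxU, -⟩ := exists_isAffineOpen_mem_and_subset (X := X) (x := x) (U := ⊤) trivial
  exact ⟨_, IsAffineOpen.fromSpec hU, inferInstance, (IsAffineOpen.range_fromSpec hU).symm ▸ hxU⟩

/-- A scheme over a field is of finite type near a point over which an open piece of some field extension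
of it is of finite type. -/
theorem exists_lft_nhd {k : Type u} [Field k] {X P : Scheme.{u}} (g : X ⟶ Spec (CommRingCat.of k)) {K : Type u} [Field K]
    (sK : Spec (CommRingCat.of K) ⟶ Spec (CommRingCat.of k)) {a : P ⟶ X} {b : P ⟶ Spec (CommRingCat.of K)}
    (sq : IsPullback a b g sK) (O : P.Opens) (z : P) (hz : z ∈ O) [LocallyOfFiniteType (O.ι ≫ b)] :
    ∃ (D : Scheme.{u}) (i : D ⟶ X), IsOpenImmersion i ∧ a z ∈ Set.range i ∧ LocallyOfFiniteType (i ≫ g) := by
  obtain ⟨R, iU, hiU, hzU⟩ := exists_chart (a z)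
  obtain ⟨φ, hφ⟩ := Spec.map_surjective (iU ≫ g)
  obtain ⟨ψ, rfl⟩ := Spec.map_surjective sK
  letI : Algebra k R := φ.hom.toAlgebra
  letI : Algebra k K := ψ.hom.toAlgebra
  have sq' : IsPullback (pullback.fst g (Spec.map ψ)) (pullback.snd g (Spec.map ψ)) g (Spec.map ψ) := IsPullback.of_hasPullback _ _
  -- the chart of the base change
  let e := pullbackSpecIso k R K
  have w : (Spec.map (CommRingCat.ofHom Algebra.TensorProduct.includeLeftRingHom) ≫ iU) ≫ g =
      Spec.map (CommRingCat.ofHom (Algebra.TensorProduct.includeRight : K →ₐ[k] R ⊗[k] K).toRingHom) ≫ Spec.map ψ := by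
    rw [Category.assoc, ← hφ, ← Spec.map_comp, ← Spec.map_comp]
    congr 1
    ext c
    exact ((Algebra.TensorProduct.includeLeft : R →ₐ[k] R ⊗[k] K).commutes c).trans
      ((Algebra.TensorProduct.includeRight : K →ₐ[k] R ⊗[k] K).commutes c).symm
  let j : Spec (CommRingCat.of (R ⊗[k] K)) ⟶ P := sq.lift _ _ w
  have sqt : IsPullback (Spec.map (CommRingCat.ofHom (Algebra.TensorProduct.includeLeftRingHom : R →+* R ⊗[k] K)))
      (Spec.map (CommRingCat.ofHom (Algebra.TensorProduct.includeRight : K →ₐ[k] R ⊗[k] K).toRingHom))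
      (iU ≫ g) (Spec.map ψ) := by
    rw [← hφ]
    exact IsPullback.of_iso_pullback ⟨by rw [hφ, ← Category.assoc, w]⟩ e.symm
      (pullbackSpecIso_inv_fst k R K) (pullbackSpecIso_inv_snd k R K)
  have sqj : IsPullback (Spec.map (CommRingCat.ofHom (Algebra.TensorProduct.includeLeftRingHom : R →+* R ⊗[k] K))) j iU a := by
    refine IsPullback.of_bot ?_ (sq.lift_fst _ _ w).symm sq
    rwa [sq.lift_snd]
  haveI : IsOpenImmersion j := MorphismProperty.of_isPullback sqj hiU
  obtain ⟨u₀, hu₀⟩ := hzU
  obtain ⟨q, -, hqz⟩ := Scheme.exists_preimage_of_isPullback sqj u₀ z hu₀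
  -- a standard open inside `O`
  obtain ⟨_, ⟨f, rfl⟩, hqf, hfO⟩ := PrimeSpectrum.isTopologicalBasis_basic_opens.exists_subset_of_mem_open
    (show q ∈ ((j ⁻¹ᵁ O : (Spec (CommRingCat.of (R ⊗[k] K))).Opens) : Set (Spec (CommRingCat.of (R ⊗[k] K)))) from
      show j q ∈ O from hqz.symm ▸ hz) (j ⁻¹ᵁ O).isOpen
  let c : Spec (CommRingCat.of (Localization.Away f)) ⟶ Spec (CommRingCat.of (R ⊗[k] K)) :=
    Spec.map (CommRingCat.ofHom (algebraMap (R ⊗[k] K) (Localization.Away f)))
  haveI : IsOpenImmersion c := IsOpenImmersion.of_isLocalization (R := R ⊗[k] K) (S := Localization.Away f) f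
  have hc : Set.range c = (PrimeSpectrum.basicOpen f : Set (PrimeSpectrum (R ⊗[k] K))) :=
    PrimeSpectrum.localization_away_comap_range _ f
  have hcO : Set.range (c ≫ j) ⊆ Set.range O.ι := by
    rintro _ ⟨t, rfl⟩
    rw [Scheme.Opens.range_ι]
    exact hfO (hc ▸ Set.mem_range_self t : c t ∈ (PrimeSpectrum.basicOpen f : Set (PrimeSpectrum (R ⊗[k] K))))
  have hT : LocallyOfFiniteType (c ≫ j ≫ b) := by
    rw [← Category.assoc, ← IsOpenImmersion.lift_fac O.ι (c ≫ j) hcO, Category.assoc]
    haveI : IsOpenImmersion (IsOpenImmersion.lift O.ι (c ≫ j) hcO) := by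
      have : IsOpenImmersion (IsOpenImmersion.lift O.ι (c ≫ j) hcO ≫ O.ι) := by
        rw [IsOpenImmersion.lift_fac]; infer_instance
      exact IsOpenImmersion.of_comp _ O.ι
    infer_instance
  have hT' : ((algebraMap (R ⊗[k] K) (Localization.Away f)).comp
      (Algebra.TensorProduct.includeRight : K →ₐ[k] R ⊗[k] K).toRingHom).FiniteType := by
    rw [sq.lift_snd, ← Spec.map_comp, HasRingHomProperty.Spec_iff (P := @LocallyOfFiniteType)] at hT
    exact hT
  obtain ⟨r, hr, hft⟩ := exists_away_finiteType f q.asIdeal hqf hT'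
  let d : Spec (CommRingCat.of (Localization.Away r)) ⟶ Spec R :=
    Spec.map (CommRingCat.ofHom (algebraMap R (Localization.Away r)))
  haveI : IsOpenImmersion d := IsOpenImmersion.of_isLocalization (R := R) (S := Localization.Away r) r
  haveI := hiU
  refine ⟨_, d ≫ iU, inferInstance, ?_, ?_⟩
  · have h1 : a z = iU (Spec.map (CommRingCat.ofHom (Algebra.TensorProduct.includeLeftRingHom : R →+* R ⊗[k] K)) q) := by
      rw [← hqz, ← Scheme.Hom.comp_apply, ← Scheme.Hom.comp_apply, sqj.w]
    have h2 : Spec.map (CommRingCat.ofHom (Algebra.TensorProduct.includeLeftRingHom : R →+* R ⊗[k] K)) q ∈ Set.range d :=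
      (Set.ext_iff.1 (PrimeSpectrum.localization_away_comap_range (Localization.Away r) r) _).2 hr
    obtain ⟨t, ht⟩ := h2
    exact ⟨t, by rw [Scheme.Hom.comp_apply, ht, h1]⟩
  · rw [Category.assoc, ← hφ, ← Spec.map_comp, HasRingHomProperty.Spec_iff (P := @LocallyOfFiniteType)]
    have e2 : (φ ≫ CommRingCat.ofHom (algebraMap R (Localization.Away r))).hom = algebraMap k (Localization.Away r) := rfl
    rw [e2, RingHom.finiteType_algebraMap]
    exact hft

/-- Local finite type is checked on charts. -/
theorem lft_of_charts {X S : Scheme.{u}} (g : X ⟶ S)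
    (H : ∀ y : X, ∃ (D : Scheme.{u}) (i : D ⟶ X), IsOpenImmersion i ∧ y ∈ Set.range i ∧ LocallyOfFiniteType (i ≫ g)) :
    LocallyOfFiniteType g := by
  choose D i hi hmem hlft using H
  refine IsZariskiLocalAtSource.of_iSup_eq_top (fun y => (i y).opensRange)
    (top_unique fun y _ => TopologicalSpace.Opens.mem_iSup.2 ⟨y, hmem y⟩) fun y => ?_
  rw [← MorphismProperty.cancel_left_of_respectsIso @LocallyOfFiniteType (i y).isoOpensRange.hom,
    Scheme.Hom.isoOpensRange_hom_ι_assoc]
  exact hlft y

/-- A group scheme over a field with a non-empty open of finite type is locally of finite type. -/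
theorem lft_of_open_field {k : Type u} [Field k] (G : Over (Spec (CommRingCat.of k))) [GrpObj G] (W : G.left.Opens)
    (hW : (W : Set G.left).Nonempty) [LocallyOfFiniteType (W.ι ≫ G.hom)] : LocallyOfFiniteType G.hom := by
  have H : ∀ y : G.left, ∃ (D : Scheme.{u}) (i : D ⟶ G.left),
      IsOpenImmersion i ∧ y ∈ Set.range i ∧ LocallyOfFiniteType (i ≫ G.hom) := by
    intro y
    obtain ⟨w, hw⟩ := hW
    obtain ⟨z₀, hz1, hz2⟩ := Scheme.Pullback.exists_preimage_pullback (f := G.hom) (g := G.hom) y w (Subsingleton.elim _ _)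
    let K := ((G ⊗ G).left.residueField z₀ : Type u)
    let sK : Spec (CommRingCat.of K) ⟶ Spec (CommRingCat.of k) := (G ⊗ G).left.fromSpecResidueField z₀ ≫ (G ⊗ G).hom
    letI : GrpObj ((Over.pullback sK).obj G) := Functor.grpObjObj
    let a : 𝟙_ (Over (Spec (CommRingCat.of K))) ⟶ (Over.pullback sK).obj G :=
      Over.homMk (pullback.lift ((G ⊗ G).left.fromSpecResidueField z₀ ≫ (fst G G).left) (𝟙 _)
        (by rw [Category.assoc, Over.w (fst G G)]; exact (Category.id_comp _).symm)) (pullback.lift_snd _ _ _)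
    let b : 𝟙_ (Over (Spec (CommRingCat.of K))) ⟶ (Over.pullback sK).obj G :=
      Over.homMk (pullback.lift ((G ⊗ G).left.fromSpecResidueField z₀ ≫ (snd G G).left) (𝟙 _)
        (by rw [Category.assoc, Over.w (snd G G)]; exact (Category.id_comp _).symm)) (pullback.lift_snd _ _ _)
    let c := b * a⁻¹
    have e : a ≫ (trans c).hom = b := by
      simp [trans, c, MonObj.comp_mul, toUnit_unique (a ≫ toUnit _) (𝟙 _), ← Category.assoc]
    let L := (trans c).hom.left
    haveI : IsIso L := inferInstanceAs (IsIso ((Over.forget _).map (trans c).hom))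
    let W' := pullback.fst G.hom sK ⁻¹ᵁ W
    let p : Spec (CommRingCat.of K) := IsLocalRing.closedPoint K
    have ha : pullback.fst G.hom sK (a.left p) = y := by
      show (a.left ≫ pullback.fst G.hom sK) p = y
      rw [show a.left ≫ pullback.fst G.hom sK = _ from pullback.lift_fst _ _ _]
      show (fst G G).left _ = y
      exact (congrArg (fst G G).left (Scheme.fromSpecResidueField_apply _ _)).trans hz1
    have hb : pullback.fst G.hom sK (b.left p) = w := by
      show (b.left ≫ pullback.fst G.hom sK) p = w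
      rw [show b.left ≫ pullback.fst G.hom sK = _ from pullback.lift_fst _ _ _]
      show (snd G G).left _ = w
      exact (congrArg (snd G G).left (Scheme.fromSpecResidueField_apply _ _)).trans hz2
    have hab : L (a.left p) = b.left p := congrArg (fun f => f.left p) e
    have hzO : a.left p ∈ L ⁻¹ᵁ W' := by
      show pullback.fst G.hom sK (L (a.left p)) ∈ W
      rw [hab, hb]; exact hw
    haveI : LocallyOfFiniteType ((L ⁻¹ᵁ W').ι ≫ pullback.snd G.hom sK) := by
      haveI : LocallyOfFiniteType (W'.ι ≫ pullback.snd G.hom sK) :=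
        MorphismProperty.of_isPullback
          ((isPullback_morphismRestrict (pullback.fst G.hom sK) W).paste_vert (IsPullback.of_hasPullback G.hom sK)) ‹_›
      have e2 : L ≫ pullback.snd G.hom sK = pullback.snd G.hom sK := Over.w (trans c).hom
      have e3 : (L ⁻¹ᵁ W').ι ≫ pullback.snd G.hom sK = (L ∣_ W') ≫ W'.ι ≫ pullback.snd G.hom sK := by
        rw [morphismRestrict_ι_assoc, e2]
      rw [e3]
      infer_instance
    obtain ⟨D, i, hi, hyi, hlft⟩ := exists_lft_nhd G.hom sK (IsPullback.of_hasPullback G.hom sK) (L ⁻¹ᵁ W') _ hzO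
    exact ⟨D, i, hi, ha ▸ hyi, hlft⟩
  exact lft_of_charts _ H

/-- A group scheme over a local artinian ring with a non-empty open of finite type is locally of finite type. -/
theorem lft_of_open (A : Type u) [CommRing A] [IsArtinianRing A] [IsLocalRing A] (G : Over (Spec (CommRingCat.of A)))
    [GrpObj G] (W : G.left.Opens) (hW : (W : Set G.left).Nonempty) [LocallyOfFiniteType (W.ι ≫ G.hom)]
    (nak : ∀ (C : Type u) [CommRing C] [Algebra A C],
      Algebra.FiniteType (A ⧸ (IsLocalRing.maximalIdeal A).map (algebraMap A A))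
        (C ⧸ ((IsLocalRing.maximalIdeal A).map (algebraMap A A)).map (algebraMap A C)) → Algebra.FiniteType A C) :
    LocallyOfFiniteType G.hom := by
  haveI : Subsingleton ↥(Spec (CommRingCat.of A)) := ⟨fun p q => PrimeSpectrum.ext
    ((IsLocalRing.eq_maximalIdeal inferInstance).trans (IsLocalRing.eq_maximalIdeal inferInstance).symm)⟩
  let k := IsLocalRing.ResidueField A
  let ρ : CommRingCat.of A ⟶ CommRingCat.of k := CommRingCat.ofHom (algebraMap A k)
  let sk : Spec (CommRingCat.of k) ⟶ Spec (CommRingCat.of A) := Spec.map ρ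
  haveI : Surjective sk := ⟨fun z => ⟨IsLocalRing.closedPoint k, Subsingleton.elim _ _⟩⟩
  letI : GrpObj ((Over.pullback sk).obj G) := Functor.grpObjObj
  haveI : Surjective (pullback.fst G.hom sk) := MorphismProperty.pullback_fst (P := @Surjective) G.hom sk inferInstance
  have h0 : LocallyOfFiniteType (pullback.snd G.hom sk) := by
    haveI : LocallyOfFiniteType ((pullback.fst G.hom sk ⁻¹ᵁ W).ι ≫ ((Over.pullback sk).obj G).hom) :=
      MorphismProperty.of_isPullback
        ((isPullback_morphismRestrict (pullback.fst G.hom sk) W).paste_vert (IsPullback.of_hasPullback G.hom sk)) ‹_›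
    refine lft_of_open_field ((Over.pullback sk).obj G) (pullback.fst G.hom sk ⁻¹ᵁ W) ?_
    obtain ⟨w, hw⟩ := hW
    obtain ⟨z, hz⟩ := (pullback.fst G.hom sk).surjective w
    exact ⟨z, show pullback.fst G.hom sk z ∈ W from hz.symm ▸ hw⟩
  have H : ∀ y : G.left, ∃ (D : Scheme.{u}) (i : D ⟶ G.left),
      IsOpenImmersion i ∧ y ∈ Set.range i ∧ LocallyOfFiniteType (i ≫ G.hom) := by
    intro y
    obtain ⟨C, iC, hiC, hy⟩ := exists_chart y
    obtain ⟨φ, hφ⟩ := Spec.map_surjective (iC ≫ G.hom)
    refine ⟨_, iC, hiC, hy, ?_⟩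
    rw [← hφ, HasRingHomProperty.Spec_iff (P := @LocallyOfFiniteType)]
    letI : Algebra A C := φ.hom.toAlgebra
    haveI := hiC
    haveI : LocallyOfFiniteType (pullback.snd (iC ≫ G.hom) sk) := by
      haveI : IsOpenImmersion (pullback.snd iC (pullback.fst G.hom sk)) :=
        MorphismProperty.pullback_snd (P := @IsOpenImmersion) iC _ hiC
      rw [← MorphismProperty.cancel_left_of_respectsIso @LocallyOfFiniteType
        (pullbackRightPullbackFstIso G.hom sk iC).hom, pullbackRightPullbackFstIso_hom_snd]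
      infer_instance
    have hA : Algebra.FiniteType A (C ⊗[A] k) := by
      have h2 : LocallyOfFiniteType ((pullbackSpecIso A C k).inv ≫ pullback.snd _ _) := by
        rw [MorphismProperty.cancel_left_of_respectsIso @LocallyOfFiniteType]
        rw [show Spec.map (CommRingCat.ofHom (algebraMap A C)) = iC ≫ G.hom from hφ]
        assumption
      rw [pullbackSpecIso_inv_snd, HasRingHomProperty.Spec_iff (P := @LocallyOfFiniteType)] at h2
      have h3 : ((Algebra.TensorProduct.includeRight : k →ₐ[A] C ⊗[A] k).toRingHom.comp (algebraMap A k)).FiniteType :=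
        h2.comp (RingHom.FiniteType.of_surjective _ Ideal.Quotient.mk_surjective)
      rwa [AlgHom.toRingHom_eq_coe, AlgHom.comp_algebraMap, RingHom.finiteType_algebraMap] at h3
    show (algebraMap A C).FiniteType
    rw [RingHom.finiteType_algebraMap]
    refine nak C ?_
    let m := IsLocalRing.maximalIdeal A
    have hm : m.map (algebraMap A A) = m := by rw [Algebra.algebraMap_self, Ideal.map_id]
    let J := (m.map (algebraMap A A)).map (algebraMap A C)
    let θ : k →ₐ[A] C ⧸ J := Ideal.Quotient.liftₐ m ((Ideal.Quotient.mkₐ A J).comp (Algebra.ofId A C)) fun x hx => by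
      show Ideal.Quotient.mk J (algebraMap A C x) = 0
      rw [Ideal.Quotient.eq_zero_iff_mem]
      exact Ideal.mem_map_of_mem _ (hm.symm ▸ hx)
    let Θ : C ⊗[A] k →ₐ[A] C ⧸ J := Algebra.TensorProduct.productMap (Ideal.Quotient.mkₐ A J) θ
    haveI : Algebra.FiniteType A (C ⧸ J) := Algebra.FiniteType.of_surjective Θ fun x => by
      obtain ⟨c, rfl⟩ := Ideal.Quotient.mk_surjective x
      exact ⟨c ⊗ₜ 1, by simp [Θ]⟩
    exact Algebra.FiniteType.of_restrictScalars_finiteType A (A ⧸ m.map (algebraMap A A)) (C ⧸ J)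
  exact lft_of_charts _ H

end Groth.Agent.SGA3Homog26
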