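import Groth.Agent.SGA3Homog26.AlgClosed
import Groth.Agent.SGA3Homog26.FlatOrbit
import Groth.Agent.SGA3Quot26.FactorLft
import Groth.Agent.SGA3UnitSec.KernelPair
import Groth.Agent.Desc19.Topology
import Groth.Agent.VarietyLib.AffineNhd
import Groth.Agent.AlgSpLib.OnePointFlat
import Mathlib.AlgebraicGeometry.Morphisms.UniversallyOpen

/-!
# Quasi-compact dominant homomorphisms of groups over a field
-/

set_option autoImplicit false
set_option linter.style.haveILetI false
set_option backward.isDefEq.respectTransparency.types false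
universe u

namespace Groth.Agent.SGA3Homog26
open CategoryTheory CategoryTheory.Limits MonoidalCategory CartesianMonoidalCategory MonObj GrpObj AlgebraicGeometry

/-- A quasi-compact dominant morphism hits every point without proper generalisation. -/
theorem mem_range_of_maximal {X Y : Scheme.{u}} (f : X ⟶ Y) [QuasiCompact f] (hf : DenseRange f.base) (ξ : Y)
    (hξ : ∀ y, y ⤳ ξ → y = ξ) : ξ ∈ Set.range f := by
  obtain ⟨U, hU, hξU, -⟩ := exists_isAffineOpen_mem_and_subset (X := Y) (x := ξ) (U := ⊤) trivial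
  haveI : CompactSpace U.toScheme := isCompact_iff_compactSpace.mp hU.isCompact
  haveI : IsAffine U.toScheme := hU
  haveI : CompactSpace (f ⁻¹ᵁ U).toScheme := QuasiCompact.compactSpace_of_compactSpace (f ∣_ U)
  have hd : (⟨ξ, hξU⟩ : U.toScheme) ∈ closure (Set.range (fun z => (f ∣_ U) z)) := by
    rw [U.ι.isOpenEmbedding.isInducing.closure_eq_preimage_closure_image]
    refine mem_closure_iff.2 ?_
    intro O hO hξO
    obtain ⟨x, hxO, hxU⟩ := hf.exists_mem_open (hO.inter U.2) ⟨ξ, hξO, hξU⟩
    exact ⟨f x, hxO, (f ∣_ U) ⟨x, hxU⟩, ⟨⟨x, hxU⟩, rfl⟩,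
      (Scheme.Hom.comp_apply _ _ _).symm.trans (congr($(morphismRestrict_ι f U) ⟨x, hxU⟩))⟩
  obtain ⟨p, hp⟩ := VarietyLib.exists_specializes_of_mem_closure_range (f ∣_ U) hd
  refine ⟨(f ⁻¹ᵁ U).ι p, hξ _ ?_⟩
  rw [← Scheme.Hom.comp_apply, ← morphismRestrict_ι, Scheme.Hom.comp_apply]
  exact hp.map U.ι.continuous

/-- Every non-empty scheme has a point without proper generalisation. -/
theorem exists_maximal (X : Scheme.{u}) [Nonempty X] : ∃ ξ : X, ∀ y, y ⤳ ξ → y = ξ := by
  obtain ⟨x⟩ := ‹Nonempty X›
  let Z : irreducibleComponents X := ⟨_, irreducibleComponent_mem_irreducibleComponents x⟩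
  let m := genericPoints.ofComponent Z
  refine ⟨m.1, fun q hq => ?_⟩
  have h1 : closure {m.1} ⊆ closure {q} := specializes_iff_closure_subset.1 hq
  exact IsGenericPoint.eq isGenericPoint_closure
    (show IsGenericPoint m.1 (closure {q}) from h1.antisymm (m.2.2 isGenericPoint_closure.isIrreducible h1))

/-- A quasi-compact dominant homomorphism of groups over a field is surjective. -/
theorem surjective_of_dominant {k : Type u} [Field k] {G H : Over (Spec (CommRingCat.of k))} [GrpObj G] [GrpObj H]
    (f : G ⟶ H) [IsMonHom f] [QuasiCompact f.left] (hf : DenseRange f.left.base) : Surjective f.left := by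
  haveI : Subsingleton ↥(Spec (CommRingCat.of k)) := inferInstance
  refine ⟨fun h => ?_⟩
  let sK : Spec (H.left.residueField h) ⟶ Spec (CommRingCat.of k) := H.left.fromSpecResidueField h ≫ H.hom
  letI : GrpObj ((Over.pullback sK).obj G) := Functor.grpObjObj
  letI : GrpObj ((Over.pullback sK).obj H) := Functor.grpObjObj
  let f' := (Over.pullback sK).map f
  let G' := (Over.pullback sK).obj G
  let H' := (Over.pullback sK).obj H
  have sq : IsPullback (pullback.fst G.hom sK) f'.left f.left (pullback.fst H.hom sK) := SGA3UnitSec.isPullback_map_left sK f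
  haveI : QuasiCompact f'.left := MorphismProperty.of_isPullback sq ‹_›
  haveI : UniversallyOpen sK := Groth.Agent.Desc19.universallyOpen_of_subsingleton sK
  haveI : UniversallyOpen (pullback.fst H.hom sK) := MorphismProperty.pullback_fst (P := @UniversallyOpen) H.hom sK ‹_›
  have hf' : DenseRange f'.left.base := by
    refine (hf.preimage (pullback.fst H.hom sK).isOpenMap).mono ?_
    rintro z ⟨x, hx⟩
    obtain ⟨p, -, hp⟩ := Scheme.exists_preimage_of_isPullback sq x z hx
    exact ⟨p, hp⟩
  let x₀ : 𝟙_ (Over (Spec (H.left.residueField h))) ⟶ H' :=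
    Over.homMk (pullback.lift (H.left.fromSpecResidueField h) (𝟙 _) (Category.id_comp _).symm) (pullback.lift_snd _ _ _)
  let t := trans x₀
  haveI : IsIso t.hom.left := inferInstanceAs (IsIso ((Over.forget _).map t.hom))
  let p₀ : Spec (H.left.residueField h) := IsLocalRing.closedPoint _
  haveI : Nonempty H'.left := ⟨x₀.left p₀⟩
  obtain ⟨ξ, hξ⟩ := exists_maximal H'.left
  obtain ⟨g₂, hg₂⟩ := mem_range_of_maximal f'.left hf' ξ hξ
  obtain ⟨g₁, hg₁⟩ := mem_range_of_maximal f'.left hf' (t.hom.left ξ) fun y hy => by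
    obtain ⟨y', hy', rfl⟩ := (Flat.generalizingMap t.hom.left) hy
    rw [hξ y' hy']
  obtain ⟨w, hw1, hw2⟩ := Scheme.Pullback.exists_preimage_pullback (f := f'.left ≫ t.hom.left) (g := f'.left) g₂ g₁
    (by rw [Scheme.Hom.comp_apply, hg₂, hg₁])
  let P := pullback (f'.left ≫ t.hom.left) f'.left
  let T : Over (Spec (H.left.residueField h)) :=
    Over.mk (P.fromSpecResidueField w ≫ pullback.fst _ _ ≫ G'.hom)
  let a : T ⟶ G' := Over.homMk (P.fromSpecResidueField w ≫ pullback.fst _ _) (Category.assoc _ _ _)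
  let b : T ⟶ G' := Over.homMk (P.fromSpecResidueField w ≫ pullback.snd _ _) (by
    rw [Category.assoc]
    show _ = P.fromSpecResidueField w ≫ pullback.fst _ _ ≫ G'.hom
    congr 1
    rw [← Over.w f', ← Category.assoc, ← pullback.condition, Category.assoc, Category.assoc, Over.w t.hom])
  have hab : b ≫ f' = a ≫ f' ≫ t.hom := by
    apply Over.OverMorphism.ext
    simp only [a, b, Over.comp_left, Over.homMk_left, Category.assoc]
    rw [← pullback.condition]
  have hx : (b * a⁻¹) ≫ f' = toUnit T ≫ x₀ := by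
    rw [MonObj.mul_comp, GrpObj.inv_comp, hab]
    simp [t, trans, MonObj.comp_mul, toUnit_unique (a ≫ f' ≫ toUnit H') (toUnit T), ← Category.assoc,
      toUnit_unique ((a ≫ f') ≫ toUnit H') (toUnit T)]
    erw [Category.comp_id, mul_inv_cancel_right]
  let pt : T.left := IsLocalRing.closedPoint _
  refine ⟨pullback.fst G.hom sK ((b * a⁻¹).left pt), ?_⟩
  rw [← Scheme.Hom.comp_apply, sq.w]
  show pullback.fst H.hom sK (((b * a⁻¹) ≫ f').left pt) = h
  rw [hx]
  show ((x₀.left ≫ pullback.fst H.hom sK) ((toUnit T).left pt)) = h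
  rw [show x₀.left ≫ pullback.fst H.hom sK = H.left.fromSpecResidueField h from pullback.lift_fst _ _ _]
  exact Scheme.fromSpecResidueField_apply _ _

/-- A quasi-compact dominant homomorphism to a reduced group over a field is flat. -/
theorem flat_of_dominant {k : Type u} [Field k] {G H : Over (Spec (CommRingCat.of k))} [GrpObj G] [GrpObj H]
    (f : G ⟶ H) [IsMonHom f] [QuasiCompact f.left] (hf : DenseRange f.left.base) [IsReduced H.left] :
    Flat f.left := by
  haveI : Subsingleton ↥(Spec (CommRingCat.of k)) := inferInstance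
  haveI : Nonempty H.left := ⟨η[H].left (IsLocalRing.closedPoint k)⟩
  obtain ⟨ξ, hξ⟩ := exists_maximal H.left
  obtain ⟨g, rfl⟩ := mem_range_of_maximal f.left hf ξ hξ
  have hfld := AlgSpLib.isField_stalk_of_maximal (f.left g) hξ
  have hfl : (f.left.stalkMap g).hom.Flat := by
    letI := hfld.toField
    algebraize [(f.left.stalkMap g).hom]
    exact inferInstanceAs (Module.Flat (H.left.presheaf.stalk (f.left g)) (G.left.presheaf.stalk g))
  have e := SGA3Quot26.orbitMap_translation f
  exact e ▸ flat_orbitMap (SGA3Quot26.translationAction f) η[H] (e.symm ▸ ⟨g, hfl⟩)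

end Groth.Agent.SGA3Homog26
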