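import Groth.Agent.SGA3Homog26.Fibrewise
import Groth.Agent.S5322
import Groth.Agent.S5403
import Groth.Agent.H8Grp.NeutralPoints
import Groth.Agent.SGA3cLib.Components
import Groth.Agent.SGA3cLib.ArtinComponent
import Groth.Agent.Desc19.Topology
import Groth.Agent.VarietyLib.GeomComponents
import Groth.Agent.AlgSpLib.OnePointFlat

/-!
# The image of the neutral components under a flat homomorphism
-/

set_option autoImplicit false
set_option linter.style.haveILetI false
set_option backward.isDefEq.respectTransparency.types false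
set_option maxHeartbeats 800000
universe u

namespace Groth.Agent.SGA3Homog26
open CategoryTheory CategoryTheory.Limits MonoidalCategory CartesianMonoidalCategory MonObj GrpObj AlgebraicGeometry

theorem fst_onFibre {S : Scheme.{u}} {G H : Over S} (u : G ⟶ H) (s : S) (z : ↥(pullback G.hom (S.fromSpecResidueField s))) :
    pullback.fst H.hom (S.fromSpecResidueField s) (onFibre u s z) =
      u.left (pullback.fst G.hom (S.fromSpecResidueField s) z) := by
  rw [← Scheme.Hom.comp_apply]
  erw [← (isPullback_onFibre u s).w]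
  rw [Scheme.Hom.comp_apply]

section Field

variable {k : Type u} [Field k] {G H : Over (Spec (CommRingCat.of k))} [GrpObj G] [GrpObj H]

theorem neutralSet_field : SGA3x.neutralSet G = connectedComponent (η[G].left (IsLocalRing.closedPoint k)) := by
  have huniv : ∀ q, G.hom.base ⁻¹' {q} = Set.univ := fun q =>
    Set.eq_univ_of_forall fun z => Subsingleton.elim (α := ↥(Spec (CommRingCat.of k))) _ _
  unfold SGA3x.neutralSet
  simp only [huniv, connectedComponentIn_univ]
  exact Set.ext fun z => ⟨fun hz => by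
    obtain ⟨p, hp⟩ := Set.mem_iUnion.1 hz
    rwa [Subsingleton.elim (α := ↥(Spec (CommRingCat.of k))) p (IsLocalRing.closedPoint k)] at hp,
    fun hz => Set.mem_iUnion.2 ⟨IsLocalRing.closedPoint k, hz⟩⟩

theorem unit_left (f : G ⟶ H) [IsMonHom f] (p : ↥(𝟙_ (Over (Spec (CommRingCat.of k)))).left) :
    f.left (η[G].left p) = η[H].left p := by
  rw [← Scheme.Hom.comp_apply, ← Over.comp_left, IsMonHom.one_hom f]

/-- A flat homomorphism of groups over a field maps the neutral component onto the neutral component. -/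
theorem image_neutralSet_field [LocallyOfFiniteType G.hom] [LocallyOfFiniteType H.hom] (f : G ⟶ H) [IsMonHom f]
    [Flat f.left] : f.left '' SGA3x.neutralSet G = SGA3x.neutralSet H := by
  refine Set.Subset.antisymm ?_ fun y hy => ?_
  · rw [neutralSet_field, neutralSet_field, ← unit_left f]
    exact f.left.continuous.image_connectedComponent_subset _
  haveI : IsLocallyNoetherian G.left := LocallyOfFiniteType.isLocallyNoetherian G.hom
  haveI : IsLocallyNoetherian H.left := LocallyOfFiniteType.isLocallyNoetherian H.hom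
  let e₀ : ↥(Spec (CommRingCat.of k)) := IsLocalRing.closedPoint k
  let C : Set G.left := connectedComponent (η[G].left e₀)
  have hC : IsOpen C := SGA3cLib.isOpen_connectedComponent _
  let D : Set H.left := connectedComponent (η[H].left e₀)
  rw [neutralSet_field] at hy ⊢
  have hfCD : f.left '' C ⊆ D := by
    show _ ⊆ connectedComponent (η[H].left e₀)
    rw [← unit_left f]
    exact f.left.continuous.image_connectedComponent_subset _
  let T : Over (Spec (CommRingCat.of k)) := Over.mk (H.left.fromSpecResidueField y ≫ H.hom)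
  let Y : T ⟶ H := Over.homMk (H.left.fromSpecResidueField y) rfl
  let pt : T.left := IsLocalRing.closedPoint _
  haveI : Subsingleton ↥T.left := inferInstanceAs (Subsingleton ↥(Spec (H.left.residueField y)))
  have hY : ∀ q, Y.left q = y := fun q => Scheme.fromSpecResidueField_apply _ _
  haveI : LocallyOfFinitePresentation G.hom := ⟨fun {U} hU {V} hV e => by
    have : IsNoetherianRing Γ(Spec (CommRingCat.of k), U) := IsLocallyNoetherian.component_noetherian ⟨U, hU⟩
    algebraize [(G.hom.appLE U V e).hom]
    have := G.hom.finiteType_appLE hU hV e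
    exact Algebra.FinitePresentation.of_finiteType.1 this⟩
  haveI : LocallyOfFinitePresentation f.left := lfp_left f
  haveI : UniversallyOpen f.left := inferInstance
  let F : T ⊗ G ⟶ T ⊗ H := T ◁ f
  haveI : UniversallyOpen F.left :=
    MorphismProperty.pullbackMap (P := @UniversallyOpen) (i₁ := (𝟙 T : T ⟶ T).left) (i₂ := f.left)
      inferInstance ‹_› (Over.w (𝟙 T)).symm (Over.w f).symm
  let φ : T ⊗ H ⟶ T ⊗ H := lift (fst T H) ((fst T H ≫ Y) * (snd T H)⁻¹)
  haveI : IsIso φ := by
    refine ⟨lift (fst T H) ((snd T H)⁻¹ * (fst T H ≫ Y)), ?_, ?_⟩ <;>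
      ext1 <;> simp [φ, MonObj.comp_mul, GrpObj.comp_inv]
  haveI : IsIso φ.left := inferInstanceAs (IsIso ((Over.forget _).map φ))
  let O₁ : Set (T ⊗ H).left := F.left '' ((snd T G).left ⁻¹' C)
  have hO₁ : IsOpen O₁ := F.left.isOpenMap _ (hC.preimage (snd T G).left.continuous)
  let O₂ : Set (T ⊗ H).left := φ.left '' O₁
  have hO₂ : IsOpen O₂ := φ.left.isOpenMap _ hO₁
  have hone : ∀ X : Over (Spec (CommRingCat.of k)), [GrpObj X] → ∀ q, (1 : T ⟶ X).left q = η[X].left e₀ :=
    fun X _ q => by
      rw [Hom.one_def, Over.comp_left, Scheme.Hom.comp_apply]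
      exact congrArg η[X].left (Subsingleton.elim (α := ↥(Spec (CommRingCat.of k))) _ _)
  let z₀ : T ⟶ T ⊗ G := lift (𝟙 T) 1
  have hz₀ : z₀.left pt ∈ (snd T G).left ⁻¹' C := by
    show (z₀ ≫ snd T G).left pt ∈ C
    rw [lift_snd, hone]
    exact mem_connectedComponent
  let P : Set (T ⊗ H).left := (snd T H).left ⁻¹' D
  have h1 : (P ∩ O₁).Nonempty := by
    refine ⟨F.left (z₀.left pt), ?_, _, hz₀, rfl⟩
    show (F ≫ snd T H).left (z₀.left pt) ∈ D
    rw [show F ≫ snd T H = snd T G ≫ f from whiskerLeft_snd _ _]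
    exact hfCD ⟨_, hz₀, rfl⟩
  have h2 : (P ∩ O₂).Nonempty := by
    refine ⟨φ.left (F.left (z₀.left pt)), ?_, _, ⟨_, hz₀, rfl⟩, rfl⟩
    show (z₀ ≫ F ≫ φ ≫ snd T H).left pt ∈ D
    have : z₀ ≫ F ≫ φ ≫ snd T H = Y := by simp [z₀, F, φ, MonObj.comp_mul, GrpObj.comp_inv]
    rw [this, hY]
    exact hy
  -- irreducibility of the inverse image of the neutral component
  have hP : IsPreirreducible P := by
    let K : Type u := H.left.residueField y
    obtain ⟨ρ, hρ⟩ := Spec.map_surjective (T.hom : Spec (CommRingCat.of K) ⟶ Spec (CommRingCat.of k))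
    letI : Algebra k K := ρ.hom.toAlgebra
    have hirr := (S5403.result k H H (SGA3cLib.regAction H) (SGA3cLib.surjective_regAction H) η[H] e₀
      (irreducibleComponent (η[H].left e₀)) (irreducibleComponent_mem_irreducibleComponents _)
      mem_irreducibleComponent).2 K
    rw [show Spec.map (CommRingCat.ofHom (algebraMap k K)) = T.hom from hρ] at hirr
    let ψ : (T ⊗ H).left ≅ pullback H.hom T.hom := pullbackSymmetry T.hom H.hom
    have hψ : P = ψ.hom.homeomorph ⁻¹' ((pullback.fst H.hom T.hom).base ⁻¹' D) := by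
      ext z
      show (snd T H).left z ∈ D ↔ (ψ.hom ≫ pullback.fst H.hom T.hom) z ∈ D
      rw [pullbackSymmetry_hom_comp_fst]
      rfl
    rw [hψ]
    exact hirr.isPreirreducible.preimage ψ.hom.homeomorph.isOpenEmbedding
  obtain ⟨z, -, ⟨a, ha, hza⟩, ⟨_, ⟨b, hb, rfl⟩, hzb⟩⟩ := hP O₁ O₂ hO₁ hO₂ h1 h2
  obtain ⟨w, hw1, hw2⟩ := Scheme.Pullback.exists_preimage_pullback (f := F.left) (g := F.left ≫ φ.left) a b
    (by rw [Scheme.Hom.comp_apply, hza, hzb])
  let Q := pullback F.left (F.left ≫ φ.left)
  let ω : Spec (CommRingCat.of (Q.residueField w)) ⟶ Spec (CommRingCat.of k) :=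
    Q.fromSpecResidueField w ≫ pullback.fst _ _ ≫ (T ⊗ G).hom
  let A : H8Grp.fld ω ⟶ T ⊗ G := Over.homMk (Q.fromSpecResidueField w ≫ pullback.fst _ _)
    ((Category.assoc _ _ _).trans (Category.id_comp _).symm)
  let B : H8Grp.fld ω ⟶ T ⊗ G := Over.homMk (Q.fromSpecResidueField w ≫ pullback.snd _ _) (by
    refine Eq.trans ?_ (Category.id_comp _).symm
    show (Q.fromSpecResidueField w ≫ pullback.snd _ _) ≫ (T ⊗ G).hom = Q.fromSpecResidueField w ≫ pullback.fst _ _ ≫ (T ⊗ G).hom
    rw [Category.assoc]
    congr 1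
    rw [← Over.w F, ← Over.w φ, ← Category.assoc, ← Category.assoc, ← Category.assoc, Over.w φ]
    rw [pullback.condition]
    simp only [Category.assoc, Over.w φ, Over.w F])
  have hAB : A ≫ F = B ≫ F ≫ φ := by
    apply Over.OverMorphism.ext
    simp only [A, B, Over.comp_left, Over.homMk_left, Category.assoc]
    rw [pullback.condition]
  have e1 : A ≫ fst T G = B ≫ fst T G := by
    have := congrArg (fun m => m ≫ fst T H) hAB
    simpa [F, φ] using this
  have e2 : (A ≫ snd T G) ≫ f = (B ≫ fst T G ≫ Y) * ((B ≫ snd T G) ≫ f)⁻¹ := by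
    have := congrArg (fun m => m ≫ snd T H) hAB
    simpa [F, φ, MonObj.comp_mul, GrpObj.comp_inv] using this
  let pw : ↥(H8Grp.fld ω).left := IsLocalRing.closedPoint (Q.residueField w)
  have hAp : A.left pw = a := by
    show pullback.fst F.left (F.left ≫ φ.left) (Q.fromSpecResidueField w pw) = a
    rw [Scheme.fromSpecResidueField_apply]; exact hw1
  have hBp : B.left pw = b := by
    show pullback.snd F.left (F.left ≫ φ.left) (Q.fromSpecResidueField w pw) = b
    rw [Scheme.fromSpecResidueField_apply]; exact hw2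
  have ha' : H8Grp.ptv (A ≫ snd T G) ∈ SGA3x.neutralSet G := by
    rw [neutralSet_field]
    show (snd T G).left (A.left pw) ∈ C
    rw [hAp]; exact ha
  have hb' : H8Grp.ptv (B ≫ snd T G) ∈ SGA3x.neutralSet G := by
    rw [neutralSet_field]
    show (snd T G).left (B.left pw) ∈ C
    rw [hBp]; exact hb
  refine ⟨H8Grp.ptv ((A ≫ snd T G) * (B ≫ snd T G)), neutralSet_field (G := G) ▸ H8Grp.mul_mem_neutralSet ha' hb', ?_⟩
  show (((A ≫ snd T G) * (B ≫ snd T G)) ≫ f).left pw = y
  rw [MonObj.mul_comp, e2, inv_mul_cancel_right]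
  exact hY _

/-- A homomorphism onto the neutral component of a reduced group over a field is flat. -/
theorem flat_of_image_neutralSet [LocallyOfFiniteType G.hom] [Flat G.hom] (f : G ⟶ H) [IsMonHom f] [IsReduced H.left]
    (h : f.left '' SGA3x.neutralSet G = SGA3x.neutralSet H) : Flat f.left := by
  obtain ⟨ξ, hξ, hξe⟩ := VarietyLib.exists_genericPoints_specializes (η[H].left (IsLocalRing.closedPoint k))
  have hmem : ξ ∈ SGA3x.neutralSet H := by
    rw [neutralSet_field, connectedComponent_eq_iff_mem.2 (isPreconnected_singleton.closure.subset_connectedComponent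
      (subset_closure rfl) (specializes_iff_mem_closure.1 hξe))]
    exact mem_connectedComponent
  rw [← h] at hmem
  obtain ⟨g, -, rfl⟩ := hmem
  have hfld := AlgSpLib.isField_stalk_of_maximal (f.left g) fun q hq => by
    have h1 : closure {f.left g} ⊆ closure {q} := specializes_iff_closure_subset.1 hq
    exact IsGenericPoint.eq isGenericPoint_closure
      (show IsGenericPoint (f.left g) (closure {q}) from h1.antisymm (hξ.2 isGenericPoint_closure.isIrreducible h1))
  refine flat_field k G H f ⟨g, ?_⟩
  letI := hfld.toField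
  algebraize [(f.left.stalkMap g).hom]
  exact inferInstanceAs (Module.Flat (H.left.presheaf.stalk (f.left g)) (G.left.presheaf.stalk g))

end Field

/-- The neutral points over a point of the base are those of the fibre. -/
theorem mem_neutralSet_fibre {S : Scheme.{u}} (G : Over S) [GrpObj G] {s : S} (z : ↥(pullback G.hom (S.fromSpecResidueField s))) :
    z ∈ SGA3x.neutralSet (Red.bc (S.fromSpecResidueField s) G) ↔
      pullback.fst G.hom (S.fromSpecResidueField s) z ∈ SGA3x.neutralSet G :=
  Set.ext_iff.1 (S5322.result S (Spec (S.residueField s)) (S.fromSpecResidueField s) G) z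

end Groth.Agent.SGA3Homog26
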