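import Groth.Agent.S5336
import Groth.Agent.S5337
import Groth.Agent.SGA3Homog26.FlatOrbit
import Groth.Agent.SGA3UnitSec.KernelPair
import Groth.Agent.SGA3UnitSec.Fibre
import Groth.Agent.FlatMorDeform.FibreFlatLft
import Groth.Agent.SmoothLib.StalkCrit
import Groth.Agent.FlatLocal.StalkCrit
import Groth.Agent.EGA43.FlatDescent.SchemeOpen
import Mathlib.RingTheory.Artinian.Module

/-!
# Flat, smooth and etale loci of a homomorphism of group schemes are read on the fibres
-/

set_option autoImplicit false
set_option linter.style.haveILetI false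
set_option backward.isDefEq.respectTransparency.types false
universe u

namespace Groth.Agent.SGA3Homog26
open CategoryTheory CategoryTheory.Limits MonoidalCategory CartesianMonoidalCategory MonObj GrpObj AlgebraicGeometry

/-- Homogeneity over a field. -/
theorem flat_field (k : Type u) [Field k] (G H : Over (Spec (CommRingCat.of k))) [GrpObj G] [GrpObj H]
    [Flat G.hom] [LocallyOfFiniteType G.hom] (u : G ⟶ H) [IsMonHom u]
    (h : ∃ x : G.left, (u.left.stalkMap x).hom.Flat) : Flat u.left :=
  S5336.result k G H u h

/-- Homogeneity over a field, smooth and etale cases. -/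
theorem smooth_etale_field (k : Type u) [Field k] (G H : Over (Spec (CommRingCat.of k))) [GrpObj G] [GrpObj H]
    [Flat G.hom] [LocallyOfFiniteType G.hom] (u : G ⟶ H) [IsMonHom u] (W : G.left.Opens)
    (hW : (W : Set G.left).Nonempty) :
    (Smooth (W.ι ≫ u.left) → Smooth u.left) ∧ (Etale (W.ι ≫ u.left) → Etale u.left) :=
  (S5337.result k G H u W hW).2.2

variable {S : Scheme.{u}} {G H : Over S} [GrpObj G] [GrpObj H] (u : G ⟶ H) [IsMonHom u]

/-- The homomorphism induced on the fibres at a point. -/
noncomputable abbrev onFibre (s : S) := ((Over.pullback (S.fromSpecResidueField s)).map u).left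

omit [GrpObj G] [GrpObj H] [IsMonHom u] in
theorem isPullback_onFibre (s : S) :
    IsPullback (pullback.fst G.hom (S.fromSpecResidueField s)) (onFibre u s) u.left
      (pullback.fst H.hom (S.fromSpecResidueField s)) :=
  SGA3UnitSec.isPullback_map_left _ u

omit [GrpObj G] [GrpObj H] [IsMonHom u] in
theorem prop_snd_of_onFibre (P : MorphismProperty Scheme.{u}) [P.RespectsIso] (s : S) (h : P (onFibre u s)) :
    P (pullback.snd u.left (H.hom.fiberι s)) := by
  have h' : P ((isPullback_onFibre u s).isoPullback.hom ≫ pullback.snd _ _) :=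
    (isPullback_onFibre u s).isoPullback_hom_snd.symm ▸ h
  exact (P.cancel_left_of_respectsIso _ _).1 h'

variable [Flat G.hom]

/-- A homomorphism flat at a point is flat on the whole fibre through it. -/
theorem flat_onFibre_of_stalkMap [LocallyOfFiniteType G.hom] (x : G.left) (hx : (u.left.stalkMap x).hom.Flat) :
    Flat (onFibre u (G.hom x)) := by
  let s := G.hom x
  let iS := S.fromSpecResidueField s
  letI : GrpObj ((Over.pullback iS).obj G) := Functor.grpObjObj
  letI : GrpObj ((Over.pullback iS).obj H) := Functor.grpObjObj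
  haveI : Flat ((Over.pullback iS).obj G).hom := MorphismProperty.pullback_snd (P := @Flat) G.hom iS ‹Flat G.hom›
  haveI : LocallyOfFiniteType ((Over.pullback iS).obj G).hom :=
    MorphismProperty.pullback_snd (P := @LocallyOfFiniteType) G.hom iS inferInstance
  obtain ⟨x', hx'⟩ : ∃ x', G.hom.fiberι s x' = x := ⟨G.hom.asFiber x, G.hom.fiberι_asFiber x⟩
  refine flat_field (S.residueField s) ((Over.pullback iS).obj G) ((Over.pullback iS).obj H) ((Over.pullback iS).map u) ⟨x', ?_⟩
  exact flat_stalkMap_fst_of_isPullback (isPullback_onFibre u s).flip x'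
    (show (u.left.stalkMap (G.hom.fiberι s x')).hom.Flat from hx'.symm ▸ hx)

/-- A homomorphism which has a property near a point induces on the fibre a homomorphism with this
property near the point; by homogeneity it is smooth (etale) everywhere as soon as this is so. -/
theorem smooth_etale_onFibre_of_nhd [LocallyOfFiniteType G.hom] (x : G.left) (W : G.left.Opens) (hx : x ∈ W) :
    (Smooth (W.ι ≫ u.left) → Smooth (onFibre u (G.hom x))) ∧
      (Etale (W.ι ≫ u.left) → Etale (onFibre u (G.hom x))) := by
  let s := G.hom x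
  let iS := S.fromSpecResidueField s
  letI : GrpObj ((Over.pullback iS).obj G) := Functor.grpObjObj
  letI : GrpObj ((Over.pullback iS).obj H) := Functor.grpObjObj
  haveI : Flat ((Over.pullback iS).obj G).hom := MorphismProperty.pullback_snd (P := @Flat) G.hom iS ‹Flat G.hom›
  haveI : LocallyOfFiniteType ((Over.pullback iS).obj G).hom :=
    MorphismProperty.pullback_snd (P := @LocallyOfFiniteType) G.hom iS inferInstance
  have hne : ((pullback.fst G.hom iS ⁻¹ᵁ W : (pullback G.hom iS).Opens) : Set ↥(pullback G.hom iS)).Nonempty :=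
    ⟨G.hom.asFiber x, show G.hom.fiberι s (G.hom.asFiber x) ∈ W from (G.hom.fiberι_asFiber x).symm ▸ hx⟩
  have key := smooth_etale_field (S.residueField s) ((Over.pullback iS).obj G) ((Over.pullback iS).obj H)
    ((Over.pullback iS).map u) (pullback.fst G.hom iS ⁻¹ᵁ W) hne
  have sq := (isPullback_morphismRestrict (pullback.fst G.hom iS) W).paste_vert (isPullback_onFibre u s)
  exact ⟨fun h => key.1 (MorphismProperty.of_isPullback sq h),
    fun h => key.2 (MorphismProperty.of_isPullback sq h)⟩

variable [LocallyOfFinitePresentation G.hom] [LocallyOfFiniteType H.hom]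

omit [GrpObj G] [GrpObj H] [IsMonHom u] in
/-- The fibre criterion of flatness. -/
theorem flat_stalkMap_of_onFibre (x : G.left) (h : Flat (onFibre u (G.hom x))) : (u.left.stalkMap x).hom.Flat := by
  haveI : LocallyOfFinitePresentation (u.left ≫ H.hom) := by rw [Over.w u]; infer_instance
  haveI : Flat (u.left ≫ H.hom) := by rw [Over.w u]; infer_instance
  refine FlatMorDeform.flat_stalkMap_of_fibre u.left H.hom x (Flat.stalkMap _ x) ?_
  rw [show H.hom (u.left x) = G.hom x by rw [← Scheme.Hom.comp_apply, Over.w u]]
  exact prop_snd_of_onFibre u @Flat _ h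

omit [GrpObj G] [GrpObj H] [IsMonHom u] in
theorem lfp_left : LocallyOfFinitePresentation u.left := by
  haveI : LocallyOfFinitePresentation (u.left ≫ H.hom) := by rw [Over.w u]; infer_instance
  exact H8Lim.lfp_cancel_right u.left H.hom

omit [GrpObj G] [GrpObj H] [IsMonHom u] in
theorem smooth_nhd_of_onFibre (x : G.left) (h : Smooth (onFibre u (G.hom x))) :
    ∃ W : G.left.Opens, x ∈ W ∧ Smooth (W.ι ≫ u.left) := by
  haveI := lfp_left u
  obtain ⟨x', hx'⟩ : ∃ x', G.hom.fiberι (G.hom x) x' = x := ⟨G.hom.asFiber x, G.hom.fiberι_asFiber x⟩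
  rw [SmoothLib.smooth_nhd_iff]
  have h0 := flat_stalkMap_of_onFibre u x inferInstance
  have h1 : ((onFibre u (G.hom x)).stalkMap x').hom.FormallySmooth :=
    show x' ∈ (onFibre u (G.hom x)).smoothLocus by rw [Scheme.Hom.smoothLocus_eq_top]; trivial
  have h2 := SmoothLib.formallySmooth_stalkMap_of_baseChange u.left _ (isPullback_onFibre u (G.hom x)) x'
    (show (u.left.stalkMap (G.hom.fiberι (G.hom x) x')).hom.Flat from hx'.symm ▸ h0) h1
  exact hx' ▸ h2

omit [GrpObj G] [GrpObj H] [IsMonHom u] in
theorem etale_nhd_of_onFibre (x : G.left) (h : Etale (onFibre u (G.hom x))) :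
    ∃ W : G.left.Opens, x ∈ W ∧ Etale (W.ι ≫ u.left) := by
  haveI := lfp_left u
  rw [FlatLocal.etale_nhd_iff]
  refine ⟨flat_stalkMap_of_onFibre u x inferInstance, SGA3UnitSec.formallyUnramified_stalkMap_of_fibre u.left x ?_⟩
  let y := u.left x
  let j : Spec (H.left.residueField y) ⟶ H.hom.fiber (H.hom y) :=
    pullback.lift (H.left.fromSpecResidueField y) (Spec.map (H.hom.residueFieldMap y)) (by simp)
  have hj : j ≫ H.hom.fiberι (H.hom y) = H.left.fromSpecResidueField y := pullback.lift_fst _ _ _
  have hy : H.hom y = G.hom x := by rw [← Scheme.Hom.comp_apply, Over.w u]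
  haveI : FormallyUnramified (pullback.snd u.left (H.hom.fiberι (H.hom y))) := by
    rw [hy]
    exact prop_snd_of_onFibre u @FormallyUnramified _ inferInstance
  have h1 : FormallyUnramified (pullback.snd u.left (j ≫ H.hom.fiberι (H.hom y))) := by
    rw [← pullbackLeftPullbackSndIso_inv_snd_snd u.left (H.hom.fiberι (H.hom y)) j]
    exact MorphismProperty.RespectsIso.precomp @FormallyUnramified _ _ (MorphismProperty.pullback_snd _ _ ‹_›)
  rw [hj] at h1
  exact h1

omit [IsMonHom u] in
/-- The set of good points of the base is open, being read along the unit section. -/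
theorem isOpen_of_eq_preimage {T : Set S} {L : Set G.left} (hL : IsOpen L) (e : L = G.hom ⁻¹' T) : IsOpen T := by
  have : T = η[G].left ⁻¹' L := by
    ext p
    rw [e]
    show p ∈ T ↔ G.hom (η[G].left p) ∈ T
    rw [← Scheme.Hom.comp_apply, Over.w (η[G] : 𝟙_ (Over S) ⟶ G)]
    rfl
  rw [this]
  exact hL.preimage η[G].left.continuous

end Groth.Agent.SGA3Homog26
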