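import Groth.Agent.S3034
import Groth.Agent.Et18.Descent
import Groth.Agent.SGA3UnitSec.KernelPair
import Groth.Agent.MorProj.SepDescent

/-!
# Properties of a homomorphism read on its kernel
-/

set_option autoImplicit false
set_option backward.isDefEq.respectTransparency false
set_option linter.style.haveILetI false

universe u

open CategoryTheory CategoryTheory.Limits MonoidalCategory CartesianMonoidalCategory MonObj GrpObj AlgebraicGeometry

namespace Groth.Agent.SGA3Homog26

open Groth.Agent

/-- Over a field a quasi-compact homomorphism has a property stable under base change and composition,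
descending fpqc and holding for closed immersions, as soon as its kernel has it. -/
theorem prop_of_ker_field (P : MorphismProperty Scheme.{u}) [P.IsStableUnderBaseChange]
    [P.IsStableUnderComposition] [P.RespectsIso] [P.DescendsAlong Et18.FPQC.{u}]
    (hcl : ∀ {X Y : Scheme.{u}} (i : X ⟶ Y), IsClosedImmersion i → P i)
    {k : Type u} [Field k] {G H : Over (Spec (CommRingCat.of k))} [GrpObj G] [GrpObj H]
    [LocallyOfFiniteType G.hom] [LocallyOfFiniteType H.hom] (u : G ⟶ H) [IsMonHom u] [QuasiCompact u.left]
    (hker : P (pullback.snd u.left (η[H] : 𝟙_ (Over (Spec (CommRingCat.of k))) ⟶ H).left)) : P u.left := by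
  haveI : Subsingleton ↥(𝟙_ (Over (Spec (CommRingCat.of k)))).left :=
    inferInstanceAs (Subsingleton ↥(Spec (CommRingCat.of k)))
  haveI : AlgebraicGeometry.IsReduced (𝟙_ (Over (Spec (CommRingCat.of k)))).left :=
    inferInstanceAs (AlgebraicGeometry.IsReduced (Spec (CommRingCat.of k)))
  haveI : IsIntegral (𝟙_ (Over (Spec (CommRingCat.of k)))).left :=
    inferInstanceAs (IsIntegral (Spec (CommRingCat.of k)))
  obtain ⟨C, _, p, i, -, -, hpi, hpf, hps, hpl, hi⟩ := S3034.result k G H u
    inferInstance
  haveI := hi
  haveI : QuasiCompact p.left := by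
    haveI : QuasiCompact (p.left ≫ i.left) := by rw [← Over.comp_left, hpi]; infer_instance
    exact QuasiCompact.of_comp p.left i.left
  have hK : P (pullback u η[H]).hom := by
    have sq := (IsPullback.of_hasPullback u η[H]).map (Over.forget _)
    have e : (pullback.snd u η[H]).left = (pullback u η[H]).hom :=
      (Category.comp_id _).symm.trans (Over.w (pullback.snd u η[H]))
    rw [← e]
    refine Eq.mp (congrArg (fun z => P z) sq.isoPullback_hom_snd) ?_
    exact (MorphismProperty.cancel_left_of_respectsIso P sq.isoPullback.hom _).2 hker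
  have sq := (GrpQLib.isPullback_translate u).map (Over.forget _)
  simp only [Over.forget_map] at sq
  have sqp : IsPullback (fst G (pullback u η[H])).left
      (fst G (pullback u η[H]) * (snd G (pullback u η[H]) ≫ pullback.fst u η[H])).left p.left p.left := by
    have hul : u.left = p.left ≫ i.left := by rw [← Over.comp_left, hpi]
    rw [hul] at sq
    haveI : Mono i.left := inferInstance
    exact ⟨⟨(cancel_mono i.left).1 (by simpa only [Category.assoc] using sq.w)⟩,
      ⟨PullbackCone.IsLimit.mk _ (fun c => sq.lift c.fst c.snd (by rw [reassoc_of% c.condition]))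
        (fun c => sq.lift_fst _ _ _) (fun c => sq.lift_snd _ _ _)
        (fun c m h1 h2 => sq.hom_ext (h1.trans (sq.lift_fst _ _ _).symm) (h2.trans (sq.lift_snd _ _ _).symm))⟩⟩
  have hpp : P p.left := MorphismProperty.of_isPullback_of_descendsAlong (Q := Et18.FPQC.{u}) sqp ⟨⟨hps, hpf⟩, ‹_›⟩
    (MorphismProperty.pullback_fst (P := P) _ _ hK)
  rw [← hpi, Over.comp_left]
  exact P.comp_mem _ _ hpp (hcl _ hi)

/-- The kernel of the reduction is the reduction of the kernel. -/
theorem ker_bc (P : MorphismProperty Scheme.{u}) [P.IsStableUnderBaseChange]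
    {S S' : Scheme.{u}} (f : S' ⟶ S) {G H : Over S} [GrpObj G] [GrpObj H] (u : G ⟶ H)
    (hker : P (pullback.snd u.left (η[H] : 𝟙_ (Over S) ⟶ H).left)) :
    letI : GrpObj ((Over.pullback f).obj H) := Functor.grpObjObj
    P (pullback.snd ((Over.pullback f).map u).left (η[(Over.pullback f).obj H] : 𝟙_ (Over S') ⟶ _).left) := by
  let F := Over.pullback f
  letI : GrpObj (F.obj H) := Functor.grpObjObj
  let e : (𝟙_ (Over S')).left ⟶ (𝟙_ (Over S)).left :=
    (Functor.LaxMonoidal.ε F).left ≫ pullback.fst (𝟙_ (Over S)).hom f
  have he : η[F.obj H].left ≫ pullback.fst H.hom f = e ≫ η[H].left :=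
    (Category.assoc _ _ _).trans ((congrArg ((Functor.LaxMonoidal.ε F).left ≫ ·) (pullback.lift_fst _ _ _)).trans
      (Category.assoc _ _ _).symm)
  have sq := (IsPullback.of_hasPullback (F.map u).left η[F.obj H].left).flip.paste_vert
    (SGA3UnitSec.isPullback_map_left f u).flip
  rw [he] at sq
  let m : pullback (F.map u).left η[F.obj H].left ⟶ pullback u.left η[H].left :=
    pullback.lift (pullback.fst _ _ ≫ pullback.fst G.hom f) (pullback.snd _ _ ≫ e)
      (sq.w.symm.trans (Category.assoc _ _ _).symm)
  have h2 : IsPullback (pullback.snd (F.map u).left η[F.obj H].left) m e (pullback.snd u.left η[H].left) := by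
    refine IsPullback.of_bot ?_ (pullback.lift_snd _ _ _).symm (IsPullback.of_hasPullback u.left η[H].left).flip
    rw [pullback.lift_fst]
    exact sq
  exact MorphismProperty.of_isPullback h2.flip hker

/-- Properness from properness of the closed fibre. -/
theorem isProper_of_thickening {X Y X₀ Y₀ : Scheme.{u}} {u : X ⟶ Y} {u₀ : X₀ ⟶ Y₀} {a : X₀ ⟶ X} {b : Y₀ ⟶ Y}
    (w : a ≫ u = u₀ ≫ b) [Surjective a] [UniversallyClosed a] [IsClosedImmersion b] [LocallyOfFiniteType u]
    [IsProper u₀] : IsProper u := by
  haveI : UniversallyClosed (a ≫ u) := by rw [w]; infer_instance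
  haveI : IsSeparated (a ≫ u) := by rw [w]; infer_instance
  haveI : UniversallyClosed u := UniversallyClosed.of_comp_surjective a u
  haveI : IsSeparated u := MorProj.isSeparated_of_universallyClosed_surjective a u
  exact ⟨⟩

variable {A : Type u} [CommRing A] [IsArtinianRing A] [IsLocalRing A]
  {G H : Over (Spec (CommRingCat.of A))} [GrpObj G] [GrpObj H] [LocallyOfFiniteType G.hom]
  [LocallyOfFiniteType H.hom] (u : G ⟶ H) [IsMonHom u] [QuasiCompact u.left]

/-- A quasi-compact homomorphism with proper kernel over an artinian local ring is proper; with finite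
kernel, it is finite. -/
theorem isProper_and_isFinite_of_ker :
    (IsProper (pullback.snd u.left (η[H] : 𝟙_ (Over (Spec (CommRingCat.of A))) ⟶ H).left) → IsProper u.left) ∧
    (IsFinite (pullback.snd u.left (η[H] : 𝟙_ (Over (Spec (CommRingCat.of A))) ⟶ H).left) → IsFinite u.left) := by
  let r : Spec (CommRingCat.of (IsLocalRing.ResidueField A)) ⟶ Spec (CommRingCat.of A) :=
    Spec.map (CommRingCat.ofHom (IsLocalRing.residue A))
  haveI : IsClosedImmersion r := IsClosedImmersion.spec_of_surjective _ IsLocalRing.residue_surjective
  haveI : Surjective r := ⟨fun p => ⟨IsLocalRing.closedPoint (IsLocalRing.ResidueField A),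
    Subsingleton.elim (α := PrimeSpectrum A) _ _⟩⟩
  let F := Over.pullback r
  letI : GrpObj (F.obj G) := Functor.grpObjObj
  letI : GrpObj (F.obj H) := Functor.grpObjObj
  haveI : LocallyOfFiniteType (F.obj G).hom := MorphismProperty.pullback_snd (P := @LocallyOfFiniteType) _ _ inferInstance
  haveI : LocallyOfFiniteType (F.obj H).hom := MorphismProperty.pullback_snd (P := @LocallyOfFiniteType) _ _ inferInstance
  have sq := SGA3UnitSec.isPullback_map_left r u
  haveI : QuasiCompact (F.map u).left := MorphismProperty.of_isPullback (P := @QuasiCompact) sq inferInstance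
  haveI : IsClosedImmersion (pullback.fst G.hom r) := MorphismProperty.pullback_fst (P := @IsClosedImmersion) _ _ inferInstance
  haveI : Surjective (pullback.fst G.hom r) := MorphismProperty.pullback_fst (P := @Surjective) _ _ inferInstance
  haveI : IsClosedImmersion (pullback.fst H.hom r) := MorphismProperty.pullback_fst (P := @IsClosedImmersion) _ _ inferInstance
  haveI : LocallyOfFiniteType (u.left ≫ H.hom) := by rw [Over.w u]; infer_instance
  haveI : LocallyOfFiniteType u.left := locallyOfFiniteType_of_comp u.left H.hom
  haveI := Et18.descends_isProper.{u}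
  haveI := Et18.descends_isFinite.{u}
  refine ⟨fun h => ?_, fun h => ?_⟩
  · haveI := prop_of_ker_field @IsProper (fun i hi => by infer_instance) (F.map u) (ker_bc @IsProper r u h)
    exact isProper_of_thickening sq.w
  · haveI := prop_of_ker_field @IsFinite (fun i hi => by infer_instance) (F.map u) (ker_bc @IsFinite r u h)
    haveI := isProper_of_thickening sq.w
    haveI : LocallyQuasiFinite u.left := LocallyQuasiFinite.of_finite_preimage_singleton _ fun y => by
      by_cases hy : y ∈ Set.range (pullback.fst H.hom r)
      · obtain ⟨y₀, rfl⟩ := hy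
        refine ((F.map u).left.finite_preimage_singleton y₀).image (pullback.fst G.hom r) |>.subset ?_
        intro g hg
        obtain ⟨g₀, rfl⟩ := (pullback.fst G.hom r).surjective g
        refine ⟨g₀, (pullback.fst H.hom r).isClosedEmbedding.injective ?_, rfl⟩
        exact ((Scheme.Hom.comp_apply (F.map u).left (pullback.fst H.hom r) g₀).symm.trans
          (congrArg (fun φ : pullback G.hom r ⟶ H.left => φ g₀) sq.w.symm)).trans
          ((Scheme.Hom.comp_apply _ _ _).trans hg)
      · haveI : Surjective (pullback.fst H.hom r) := MorphismProperty.pullback_fst (P := @Surjective) _ _ inferInstance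
        exact absurd ((pullback.fst H.hom r).surjective y) hy
    exact (IsFinite.iff_isProper_and_locallyQuasiFinite _).2 ⟨inferInstance, inferInstance⟩

end Groth.Agent.SGA3Homog26
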