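import Groth.Agent.SGA3Homog26.AlgClosed
import Groth.Agent.S7520
import Groth.Agent.S3034
import Groth.Agent.SGA3UnitSec.KernelPair
import Groth.Agent.Desc19.Topology
import Mathlib.AlgebraicGeometry.Morphisms.UniversallyOpen
import Mathlib.AlgebraicGeometry.Noetherian
import Mathlib.FieldTheory.IsAlgClosed.AlgebraicClosure

/-!
# Open homomorphisms of groups over a field are universally open
-/

set_option autoImplicit false
set_option backward.isDefEq.respectTransparency false
set_option linter.style.haveILetI false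

universe u

open CategoryTheory CategoryTheory.Limits MonoidalCategory CartesianMonoidalCategory MonObj GrpObj AlgebraicGeometry
  TopologicalSpace

namespace Groth.Agent.SGA3Homog26

open Groth.Agent

theorem interior_biUnion_eq_empty {α J : Type*} [TopologicalSpace α] (t : Finset J) (f : J → Set α)
    (hc : ∀ i ∈ t, IsClosed (f i)) (he : ∀ i ∈ t, interior (f i) = ∅) : interior (⋃ i ∈ t, f i) = ∅ := by
  classical
  induction t using Finset.induction_on with
  | empty => simp
  | insert a t _ ih =>
    rw [Finset.set_biUnion_insert, Set.union_comm, interior_union_isClosed_of_interior_empty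
      (isClosed_biUnion_finset fun i hi => hc i (Finset.mem_insert_of_mem hi)) (he a (Finset.mem_insert_self a t))]
    exact ih (fun i hi => hc i (Finset.mem_insert_of_mem hi)) (fun i hi => he i (Finset.mem_insert_of_mem hi))

variable {k : Type u} [Field k] [IsAlgClosed k] {G H : Over (Spec (CommRingCat.of k))} [GrpObj G] [GrpObj H]
  [LocallyOfFiniteType G.hom] [LocallyOfFiniteType H.hom]

/-- Over an algebraically closed field, a homomorphism mapping a quasi-compact open onto a set with
interior is universally open. -/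
theorem universallyOpen_of_interior (u : G ⟶ H) [IsMonHom u] (V : G.left.Opens) (hV : IsCompact (V : Set G.left))
    (hint : (interior (u.left '' (V : Set G.left))).Nonempty) : UniversallyOpen u.left := by
  classical
  haveI : IsLocallyNoetherian G.left := LocallyOfFiniteType.isLocallyNoetherian G.hom
  haveI : IsLocallyNoetherian H.left := LocallyOfFiniteType.isLocallyNoetherian H.hom
  haveI : JacobsonSpace G.left := LocallyOfFiniteType.jacobsonSpace G.hom
  haveI : JacobsonSpace H.left := LocallyOfFiniteType.jacobsonSpace H.hom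
  let p₀ : Spec (CommRingCat.of k) := IsLocalRing.closedPoint k
  obtain ⟨G₀, _, j, _, hjc, hjf, hjr, -, hjq⟩ := S7520.result k G
  haveI := hjc
  haveI := hjf
  haveI := hjq
  haveI : LocallyOfFiniteType G₀.hom := by rw [← Over.w j]; infer_instance
  haveI : LocallyOfFinitePresentation j.left := inferInstance
  let R : G.left.Opens := ⟨Set.range j.left, j.left.isOpenMap.isOpen_range⟩
  haveI : QuasiCompact (j ≫ u).left := by
    rw [Over.comp_left]
    exact quasiCompact_of_compactSpace _
  haveI : Subsingleton ↥(𝟙_ (Over (Spec (CommRingCat.of k)))).left :=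
    inferInstanceAs (Subsingleton ↥(Spec (CommRingCat.of k)))
  haveI : IsIntegral (𝟙_ (Over (Spec (CommRingCat.of k)))).left :=
    inferInstanceAs (IsIntegral (Spec (CommRingCat.of k)))
  obtain ⟨C, _, p, i, hp, hi, hpi, hpf, hps, hpl, hic⟩ := S3034.result k G₀ H (j ≫ u) inferInstance
  haveI := hic
  haveI := hi
  haveI : LocallyOfFiniteType C.hom := by rw [← Over.w i]; infer_instance
  haveI : JacobsonSpace C.left := LocallyOfFiniteType.jacobsonSpace C.hom
  have hR : u.left '' (R : Set G.left) = Set.range i.left := by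
    show u.left '' Set.range j.left = _
    rw [← Set.range_comp, ← hps.surj.range_comp i.left]
    exact congrArg (fun φ : G₀ ⟶ H => Set.range φ.left) hpi.symm
  have he : η[G].left p₀ ∈ R := hjr.ge mem_connectedComponent
  -- translates of the neutral component cover `V`
  have hcov : ∀ v ∈ (V : Set G.left), ∃ x : 𝟙_ (Over (Spec (CommRingCat.of k))) ⟶ G, v ∈ (trans x).hom.left '' (R : Set G.left) := by
    intro v _
    obtain ⟨g, hg, hgc⟩ := nonempty_inter_closedPoints ⟨v, subset_closure (Set.mem_singleton v)⟩
      (isClosed_closure (s := ({v} : Set G.left))).isLocallyClosed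
    let x : 𝟙_ (Over (Spec (CommRingCat.of k))) ⟶ G :=
      Over.homMk (pointOfClosedPoint G.hom g hgc) (pointOfClosedPoint_comp G.hom g hgc)
    refine ⟨x, ?_⟩
    haveI : IsIso (trans x).hom.left := inferInstanceAs (IsIso ((Over.forget _).map (trans x).hom))
    refine (specializes_iff_mem_closure.2 hg).mem_open ((trans x).hom.left.isOpenEmbedding.isOpenMap _ R.isOpen)
      ⟨η[G].left p₀, he, ?_⟩
    have e : η[G] ≫ (trans x).hom = x := by
      simp [trans, MonObj.comp_mul, toUnit_unique (η[G] ≫ toUnit G) (𝟙 _), ← Category.assoc, ← MonObj.one_eq_one]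
    show ((η[G] ≫ (trans x).hom).left) p₀ = g
    rw [e]
    exact pointOfClosedPoint_apply G.hom g hgc p₀
  choose x hx using hcov
  obtain ⟨t, ht⟩ := hV.elim_finite_subcover (fun v : (V : Set G.left) => (trans (x v.1 v.2)).hom.left '' (R : Set G.left))
    (fun v => by
      haveI : IsIso (trans (x v.1 v.2)).hom.left := inferInstanceAs (IsIso ((Over.forget _).map (trans (x v.1 v.2)).hom))
      exact (trans (x v.1 v.2)).hom.left.isOpenEmbedding.isOpenMap _ R.isOpen)
    (fun v hv => Set.mem_iUnion.2 ⟨⟨v, hv⟩, hx v hv⟩)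
  have himg : ∀ v : (V : Set G.left), u.left '' ((trans (x v.1 v.2)).hom.left '' (R : Set G.left)) =
      (trans (x v.1 v.2 ≫ u)).hom.left '' Set.range i.left := fun v => by
    rw [← hR, Set.image_image, Set.image_image]
    refine Set.image_congr' fun a => ?_
    exact congrArg (fun φ : G ⟶ H => φ.left a) (trans_comp u (x v.1 v.2))
  have hiso : ∀ y : 𝟙_ (Over (Spec (CommRingCat.of k))) ⟶ H, IsIso (trans y).hom.left := fun y =>
    inferInstanceAs (IsIso ((Over.forget _).map (trans y).hom))
  have hint' : (interior (Set.range i.left)).Nonempty := by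
    by_contra hne
    rw [Set.not_nonempty_iff_eq_empty] at hne
    refine hint.ne_empty (Set.subset_empty_iff.1 ?_)
    refine (interior_mono (?_ : u.left '' (V : Set G.left) ⊆
      ⋃ v ∈ t, (trans (x v.1 v.2 ≫ u)).hom.left '' Set.range i.left)).trans (interior_biUnion_eq_empty t _ ?_ ?_).subset
    · refine (Set.image_mono ht).trans ?_
      rw [Set.image_iUnion₂]
      exact Set.iUnion₂_mono fun v _ => (himg v).le
    · intro v _
      haveI := hiso (x v.1 v.2 ≫ u)
      exact (trans (x v.1 v.2 ≫ u)).hom.left.homeomorph.isClosed_image.2 i.left.isClosedEmbedding.isClosed_range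
    · intro v _
      haveI := hiso (x v.1 v.2 ≫ u)
      exact ((trans (x v.1 v.2 ≫ u)).hom.left.homeomorph.image_interior _).symm.trans (by rw [hne, Set.image_empty])
  -- so the image of the neutral component is open
  obtain ⟨c₀, hc₀, hc₀c⟩ := nonempty_inter_closedPoints hint' isOpen_interior.isLocallyClosed
  obtain ⟨b₀, rfl⟩ := interior_subset hc₀
  have hb₀ : IsClosed ({b₀} : Set C.left) := by
    have := hc₀c.preimage i.left.continuous
    rwa [show i.left ⁻¹' {i.left b₀} = {b₀} from Set.ext fun a => i.left.isClosedEmbedding.injective.eq_iff] at this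
  have hopen : IsOpen (Set.range i.left) := by
    rw [← interior_eq_iff_isOpen]
    refine interior_subset.antisymm fun d hd => ?_
    by_contra hcon
    obtain ⟨c, ⟨hc, hcn⟩, hcc⟩ := nonempty_inter_closedPoints (Z := Set.range i.left \ interior (Set.range i.left))
      ⟨d, hd, hcon⟩ (i.left.isClosedEmbedding.isClosed_range.inter isOpen_interior.isClosed_compl).isLocallyClosed
    obtain ⟨b, rfl⟩ := hc
    have hb : IsClosed ({b} : Set C.left) := by
      have := hcc.preimage i.left.continuous
      rwa [show i.left ⁻¹' {i.left b} = {b} from Set.ext fun a => i.left.isClosedEmbedding.injective.eq_iff] at this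
    let B : 𝟙_ (Over (Spec (CommRingCat.of k))) ⟶ C :=
      Over.homMk (pointOfClosedPoint C.hom b hb) (pointOfClosedPoint_comp C.hom b hb)
    let B₀ : 𝟙_ (Over (Spec (CommRingCat.of k))) ⟶ C :=
      Over.homMk (pointOfClosedPoint C.hom b₀ hb₀) (pointOfClosedPoint_comp C.hom b₀ hb₀)
    have e : B₀ ≫ (trans (B * B₀⁻¹)).hom = B := by
      simp [trans, MonObj.comp_mul, toUnit_unique (B₀ ≫ toUnit C) (𝟙 _), ← Category.assoc]
    have hpt : (trans ((B * B₀⁻¹) ≫ i)).hom.left (i.left b₀) = i.left b := by
      have h1 : B₀ ≫ i ≫ (trans ((B * B₀⁻¹) ≫ i)).hom = B ≫ i := by rw [← trans_comp, ← Category.assoc, e]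
      have h2 := congrArg (fun φ : 𝟙_ (Over (Spec (CommRingCat.of k))) ⟶ H => φ.left p₀) h1
      have h3 : B₀.left p₀ = b₀ := pointOfClosedPoint_apply C.hom b₀ hb₀ p₀
      have h4 : B.left p₀ = b := pointOfClosedPoint_apply C.hom b hb p₀
      rw [← h3, ← h4]
      exact h2
    haveI := hiso ((B * B₀⁻¹) ≫ i)
    refine hcn (interior_maximal ?_ ((trans ((B * B₀⁻¹) ≫ i)).hom.left.homeomorph.isOpenMap _ isOpen_interior)
      ⟨_, hc₀, hpt⟩)
    rintro _ ⟨a, ha, rfl⟩
    obtain ⟨a', rfl⟩ := interior_subset ha
    exact ⟨(trans (B * B₀⁻¹)).hom.left a', congrArg (fun φ : C ⟶ H => φ.left a') (trans_comp i (B * B₀⁻¹))⟩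
  let O : H.left.Opens := ⟨_, hopen⟩
  have hio : UniversallyOpen i.left := by
    let i' := IsOpenImmersion.lift O.ι i.left (by rw [Scheme.Opens.range_ι]; rfl)
    have hi' : i' ≫ O.ι = i.left := IsOpenImmersion.lift_fac _ _ _
    haveI : IsClosedImmersion (i' ≫ O.ι) := by rw [hi']; infer_instance
    haveI : IsClosedImmersion i' := IsClosedImmersion.of_comp i' O.ι
    haveI : Surjective i' := ⟨fun o => by
      obtain ⟨a, ha⟩ := o.2
      exact ⟨a, O.ι.isOpenEmbedding.injective (by rw [← Scheme.Hom.comp_apply, hi']; exact ha)⟩⟩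
    haveI := Desc19.universallyOpen_of_closedImm_surjective i'
    rw [← hi']; infer_instance
  haveI : UniversallyOpen (j.left ≫ u.left) := by
    rw [← Over.comp_left, ← hpi, Over.comp_left]; infer_instance
  refine of_open_algClosed @UniversallyOpen k G H u R ⟨_, he⟩ ?_
  let j' := IsOpenImmersion.lift R.ι j.left (by rw [Scheme.Opens.range_ι]; rfl)
  have hj' : j' ≫ R.ι = j.left := IsOpenImmersion.lift_fac _ _ _
  haveI : Surjective j' := ⟨fun o => by
    obtain ⟨a, ha⟩ := o.2
    exact ⟨a, R.ι.isOpenEmbedding.injective (by rw [← Scheme.Hom.comp_apply, hj']; exact ha)⟩⟩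
  haveI : UniversallyOpen (j' ≫ R.ι ≫ u.left) := by rw [reassoc_of% hj']; infer_instance
  exact Desc19.universallyOpen_of_comp_surjective j' (R.ι ≫ u.left)

omit [IsAlgClosed k]

/-- An open homomorphism over a field is universally open. -/
theorem universallyOpen_of_isOpenMap_field (u : G ⟶ H) [IsMonHom u] (hu : IsOpenMap u.left.base) :
    UniversallyOpen u.left := by
  let Ω := AlgebraicClosure k
  let s : Spec (CommRingCat.of Ω) ⟶ Spec (CommRingCat.of k) := Spec.map (CommRingCat.ofHom (algebraMap k Ω))
  haveI : Surjective s := ⟨fun x => ⟨IsLocalRing.closedPoint Ω, Subsingleton.elim _ _⟩⟩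
  haveI : UniversallyOpen s := Desc19.universallyOpen_of_subsingleton s
  haveI : IsAffineHom s := inferInstance
  haveI : IsAffineHom (pullback.fst G.hom s) := MorphismProperty.pullback_fst (P := @IsAffineHom) _ _ ‹_›
  let F := Over.pullback s
  letI : GrpObj (F.obj G) := Functor.grpObjObj
  letI : GrpObj (F.obj H) := Functor.grpObjObj
  haveI : LocallyOfFiniteType (F.obj G).hom := MorphismProperty.pullback_snd (P := @LocallyOfFiniteType) _ _ inferInstance
  haveI : LocallyOfFiniteType (F.obj H).hom := MorphismProperty.pullback_snd (P := @LocallyOfFiniteType) _ _ inferInstance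
  have sq := SGA3UnitSec.isPullback_map_left s u
  obtain ⟨U, hU, hxU, -⟩ := exists_isAffineOpen_mem_and_subset (x := η[G].left (IsLocalRing.closedPoint k))
    (U := (⊤ : G.left.Opens)) trivial
  haveI := universallyOpen_of_interior (F.map u) (pullback.fst G.hom s ⁻¹ᵁ U)
    ((hU.preimage (pullback.fst G.hom s)).isCompact) (by
      have hsub : (pullback.fst H.hom s) ⁻¹' (u.left '' (U : Set G.left)) ⊆
          (F.map u).left '' ((pullback.fst G.hom s ⁻¹ᵁ U : (pullback G.hom s).Opens) : Set ↥(pullback G.hom s)) := by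
        rintro y ⟨g, hg, hgy⟩
        obtain ⟨w, hw1, hw2⟩ := Scheme.exists_preimage_of_isPullback sq g y hgy
        exact ⟨w, show pullback.fst G.hom s w ∈ U from hw1 ▸ hg, hw2⟩
      obtain ⟨y, hy⟩ := (pullback.fst H.hom s).surjective (u.left (η[G].left (IsLocalRing.closedPoint k)))
      exact ⟨y, interior_maximal hsub ((hu _ U.isOpen).preimage (pullback.fst H.hom s).continuous) ⟨_, hxU, hy.symm⟩⟩)
  haveI : UniversallyOpen (pullback.fst H.hom s) := MorphismProperty.pullback_fst (P := @UniversallyOpen) _ _ ‹UniversallyOpen s›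
  haveI : UniversallyOpen (pullback.fst G.hom s ≫ u.left) := by rw [sq.w]; infer_instance
  exact Desc19.universallyOpen_of_comp_surjective (pullback.fst G.hom s) u.left

end Groth.Agent.SGA3Homog26
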