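import Groth.Agent.EGA43.UnibranchOpen.Scheme
import Mathlib.AlgebraicGeometry.Morphisms.QuasiFinite

/-!
# Openness at points over unibranch points (EGA IV 14.4.1.2, pointwise)
-/

set_option autoImplicit false
set_option backward.isDefEq.respectTransparency false
set_option linter.style.haveILetI false

universe u

open PrimeSpectrum Polynomial IsLocalRing

namespace Groth.Agent.SGA3Homog26

theorem unibranch_congr {A : Type u} [CommRing A] {p p' : Ideal A} [p.IsPrime] [p'.IsPrime] (h : p = p')
    (hu : CAlg2.IsUnibranch (Localization.AtPrime p)) : CAlg2.IsUnibranch (Localization.AtPrime p') := by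
  subst h; exact hu

theorem exists_normalization' {A : Type u} [CommRing A] [IsLocalRing A] (hA : CAlg2.IsUnibranch A) :
    ∃ (C : Type u) (_ : CommRing C) (_ : IsDomain C) (_ : IsLocalRing C) (_ : IsIntegrallyClosed C)
      (_ : Algebra A C) (_ : Algebra.IsIntegral A C), RingHom.ker (algebraMap A C) = nilradical A ∧
      (∀ c : C, ∃ s : A, s ∉ nilradical A ∧ ∃ a : A, algebraMap A C s * c = algebraMap A C a) := by
  obtain ⟨hdom, hloc⟩ := hA
  haveI := hdom
  haveI := hloc
  haveI : IsIntegrallyClosed (CAlg2.normRed A) :=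
    integralClosure.isIntegrallyClosedOfFiniteExtension (FractionRing (CAlg2.red A))
  haveI : Algebra.IsIntegral A (CAlg2.normRed A) := Algebra.IsIntegral.trans (CAlg2.red A)
  have hRC : Function.Injective (algebraMap (CAlg2.red A) (CAlg2.normRed A)) := fun a b h =>
    IsFractionRing.injective (CAlg2.red A) (FractionRing (CAlg2.red A)) (congrArg Subtype.val h)
  refine ⟨CAlg2.normRed A, inferInstance, inferInstance, inferInstance, inferInstance, inferInstance,
    inferInstance, ?_, fun c => ?_⟩
  · ext a
    rw [RingHom.mem_ker, IsScalarTower.algebraMap_apply A (CAlg2.red A) (CAlg2.normRed A),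
      map_eq_zero_iff _ hRC]
    exact Ideal.Quotient.eq_zero_iff_mem
  · obtain ⟨x, y, hy, hc⟩ := IsFractionRing.div_surjective (A := CAlg2.red A) c.1
    obtain ⟨s, rfl⟩ := Ideal.Quotient.mk_surjective y
    obtain ⟨a, rfl⟩ := Ideal.Quotient.mk_surjective x
    refine ⟨s, fun h => nonZeroDivisors.ne_zero hy (Ideal.Quotient.eq_zero_iff_mem.2 h), a, Subtype.ext ?_⟩
    show algebraMap (CAlg2.red A) (FractionRing (CAlg2.red A)) (Ideal.Quotient.mk _ s) * c.1 =
      algebraMap (CAlg2.red A) (FractionRing (CAlg2.red A)) (Ideal.Quotient.mk _ a)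
    rw [← hc, mul_div_cancel₀ _ (IsFractionRing.to_map_ne_zero_of_mem_nonZeroDivisors hy)]


/-- Over a unibranch point the normalization has a single prime. -/
theorem eq_of_comap_eq_of_unibranch {A R' : Type u} [CommRing A] [CommRing R'] [IsDomain R'] [IsIntegrallyClosed R'] [Algebra A R']
    [Algebra.IsIntegral A R'] (hker : RingHom.ker (algebraMap A R') = nilradical A)
    (hbir : ∀ z : R', ∃ u ∉ nilradical A, ∃ a : A, algebraMap A R' u * z = algebraMap A R' a)
    (P₁ P₂ : PrimeSpectrum R') (hP : PrimeSpectrum.comap (algebraMap A R') P₁ = PrimeSpectrum.comap (algebraMap A R') P₂)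
    (hu : CAlg2.IsUnibranch (Localization.AtPrime (PrimeSpectrum.comap (algebraMap A R') P₂).asIdeal)) :
    P₁ = P₂ := by
  let p := PrimeSpectrum.comap (algebraMap A R') P₂
  obtain ⟨C, _, _, _, _, _, _, hkerC, hbirC⟩ := exists_normalization' hu
  letI : Algebra A C := ((algebraMap (Localization.AtPrime p.asIdeal) C).comp
    (algebraMap A (Localization.AtPrime p.asIdeal))).toAlgebra
  haveI : IsScalarTower A (Localization.AtPrime p.asIdeal) C := .of_algebraMap_eq fun _ => rfl
  have hAC : ∀ a, algebraMap A C a =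
      algebraMap (Localization.AtPrime p.asIdeal) C (algebraMap A _ a) := fun _ => rfl
  have hkC : ∀ a : A, algebraMap A C a = 0 ↔ a ∈ nilradical A := fun a => by
    refine ⟨fun h => ?_, fun h => ((mem_nilradical.1 h).map (algebraMap A C)).eq_zero⟩
    have h' : algebraMap A (Localization.AtPrime p.asIdeal) a ∈ nilradical _ := hkerC.le h
    obtain ⟨n, hn⟩ := mem_nilradical.1 h'
    rw [← map_pow, IsLocalization.map_eq_zero_iff p.asIdeal.primeCompl] at hn
    obtain ⟨⟨s, hs⟩, hs0⟩ := hn
    have h1 : algebraMap A R' s * algebraMap A R' a ^ n = 0 := by rw [← map_pow, ← map_mul, hs0, map_zero]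
    have h2 : algebraMap A R' s ≠ 0 := fun h => hs (show algebraMap A R' s ∈ P₂.asIdeal by rw [h]; exact zero_mem _)
    exact hker.le (eq_zero_of_pow_eq_zero ((mul_eq_zero.1 h1).resolve_left h2))
  let N := nilradical A
  let R := A ⧸ N
  letI : Algebra R R' := (Ideal.Quotient.lift N (algebraMap A R') fun a ha => RingHom.mem_ker.1 (hker.ge ha)).toAlgebra
  have hR : ∀ a, algebraMap R R' (Ideal.Quotient.mk N a) = algebraMap A R' a := fun a => rfl
  have hinj : Function.Injective (algebraMap R R') := Ideal.injective_lift_iff _ |>.2 hker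
  haveI : IsDomain R := hinj.isDomain _
  let K := FractionRing R'
  let K' := FractionRing C
  haveI : FaithfulSMul R K := (faithfulSMul_iff_algebraMap_injective R K).2
    ((IsFractionRing.injective R' K).comp hinj)
  haveI : IsFractionRing R K := by
    refine IsFractionRing.of_field R K fun z => ?_
    obtain ⟨c, d, hd, rfl⟩ := IsFractionRing.div_surjective (A := R') z
    obtain ⟨s, hs, a, ha⟩ := hbir c
    obtain ⟨t, ht, b, hb⟩ := hbir d
    have hne : ∀ x ∉ N, algebraMap R' K (algebraMap A R' x) ≠ 0 := fun x hx =>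
      (map_ne_zero_iff _ (IsFractionRing.injective R' K)).2 fun h => hx (hker.le h)
    have hd0 : algebraMap R' K d ≠ 0 := IsFractionRing.to_map_ne_zero_of_mem_nonZeroDivisors hd
    refine ⟨Ideal.Quotient.mk N (a * t), Ideal.Quotient.mk N (s * b), ?_⟩
    show algebraMap R' K c / _ = algebraMap R' K (algebraMap A R' (a * t)) / algebraMap R' K (algebraMap A R' (s * b))
    rw [map_mul (algebraMap A R'), map_mul (algebraMap A R'), ← ha, ← hb, map_mul, map_mul, map_mul, map_mul,
      div_eq_div_iff hd0 (mul_ne_zero (hne s hs) (mul_ne_zero (hne t ht) hd0))]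
    ring
  let ρ : R →+* K' := (algebraMap C K').comp
    (Ideal.Quotient.lift N (algebraMap A C) fun a ha => (hkC a).2 ha)
  have hρ : Function.Injective ρ := (IsFractionRing.injective C K').comp
    ((Ideal.injective_lift_iff (fun a ha => (hkC a).2 ha)).2 (le_antisymm (fun a h => (hkC a).1 h) fun a h => (hkC a).2 h))
  let φ : K →+* K' := IsFractionRing.lift hρ
  have hφ : ∀ a, φ (algebraMap R' K (algebraMap A R' a)) = algebraMap C K' (algebraMap A C a) := fun a =>
    IsFractionRing.lift_algebraMap hρ (Ideal.Quotient.mk N a)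
  have hφA : φ.comp (algebraMap A K) = (algebraMap C K').comp (algebraMap A C) := RingHom.ext fun a => by
    show φ (algebraMap A K a) = _
    rw [IsScalarTower.algebraMap_apply A R' K]; exact hφ a
  have hCint : ∀ z : R', ∃ c, algebraMap C K' c = φ (algebraMap R' K z) := fun z => by
    refine IsIntegrallyClosed.isIntegral_iff.1 ?_
    obtain ⟨f, hfm, hfz⟩ := (Algebra.IsIntegral.isIntegral (R := A) z).map (IsScalarTower.toAlgHom A R' K)
    refine ⟨f.map (algebraMap A C), hfm.map _, ?_⟩
    rw [eval₂_map, ← hφA, ← hom_eval₂]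
    exact (congrArg φ hfz).trans (map_zero φ)
  choose g₀ hg using hCint
  have hinjC := IsFractionRing.injective C K'
  let g : R' →+* C :=
    { toFun := g₀
      map_one' := hinjC (by rw [hg, map_one, map_one, map_one])
      map_zero' := hinjC (by rw [hg, map_zero, map_zero, map_zero])
      map_mul' := fun x y => hinjC (by rw [hg, map_mul, map_mul, map_mul, hg, hg])
      map_add' := fun x y => hinjC (by rw [hg, map_add, map_add, map_add, hg, hg]) }
  have hgA : ∀ a, g (algebraMap A R' a) = algebraMap A C a := fun a => hinjC ((hg _).trans (hφ a))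
  have key : ∀ P : PrimeSpectrum R', PrimeSpectrum.comap (algebraMap A R') P = p →
      P.asIdeal = (maximalIdeal C).comap g := by
    intro P hPp
    have hle : P.asIdeal ≤ (maximalIdeal C).comap g := fun z hz => by
      rw [Ideal.mem_comap, mem_maximalIdeal, mem_nonunits_iff]
      intro hunit
      obtain ⟨c, hc⟩ := hunit.exists_right_inv
      obtain ⟨⟨s, hs⟩, hsc⟩ := IsIntegral.exists_multiple_integral_of_isLocalization p.asIdeal.primeCompl c
        (Algebra.IsIntegral.isIntegral (R := Localization.AtPrime p.asIdeal) c)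
      obtain ⟨u, hu0, a, hua⟩ := hbirC c
      obtain ⟨⟨a', t⟩, hat⟩ := IsLocalization.surj p.asIdeal.primeCompl a
      obtain ⟨⟨u', t'⟩, hut⟩ := IsLocalization.surj p.asIdeal.primeCompl u
      have hne : algebraMap A C (u' * t) ≠ 0 := by
        rw [map_mul, hAC, hAC, ← hut, map_mul]
        refine mul_ne_zero (mul_ne_zero (fun h => hu0 (hkerC.le h)) ?_) ?_ <;>
          exact ((IsLocalization.map_units (Localization.AtPrime p.asIdeal) _).map (algebraMap _ C)).ne_zero
      have hrel : algebraMap A C (u' * t) * c = algebraMap A C (a' * t') := by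
        rw [map_mul, map_mul, hAC, hAC, hAC, hAC, ← hut, ← hat, map_mul, map_mul, ← hua]; ring
      let w : K := algebraMap R' K (algebraMap A R' (s * (a' * t'))) / algebraMap R' K (algebraMap A R' (u' * t))
      have hw : φ w = algebraMap C K' (algebraMap A C s * c) := by
        rw [map_div₀, hφ, hφ, div_eq_iff ((map_ne_zero_iff _ hinjC).2 hne), ← map_mul,
          map_mul (algebraMap A C) s, ← hrel]
        congr 1; ring
      obtain ⟨w', hw'⟩ : ∃ w', algebraMap R' K w' = w := by
        refine IsIntegrallyClosed.isIntegral_iff.1 (IsIntegral.tower_top (R := A) ?_)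
        obtain ⟨f, hfm, hf⟩ := hsc
        refine ⟨f, hfm, φ.injective ?_⟩
        rw [hom_eval₂, map_zero, hw, hφA, ← hom_eval₂,
          show algebraMap A C s * c = s • c from (Algebra.smul_def s c).symm]
        exact (congrArg (algebraMap C K') hf).trans (map_zero _)
      have hzw : z * w' = algebraMap A R' s := by
        refine IsFractionRing.injective R' K (φ.injective ?_)
        rw [map_mul, map_mul, hw', ← hg, hw, hφ, ← map_mul, mul_left_comm,
          show g₀ z * c = 1 from hc, mul_one]
      refine hs ?_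
      rw [← hPp]
      show algebraMap A R' s ∈ P.asIdeal
      rw [← hzw]
      exact P.asIdeal.mul_mem_right _ hz
    by_contra hne
    obtain ⟨z, hz, hzP⟩ := SetLike.exists_of_lt (lt_of_le_of_ne hle hne)
    have hlt := Ideal.comap_lt_comap_of_integral_mem_sdiff (R := A) hle ⟨hz, hzP⟩
      (Algebra.IsIntegral.isIntegral z)
    refine hlt.ne ?_
    rw [show P.asIdeal.comap (algebraMap A R') = p.asIdeal from congrArg PrimeSpectrum.asIdeal hPp,
      Ideal.comap_comap, show g.comp (algebraMap A R') = algebraMap A C from RingHom.ext hgA,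
      show algebraMap A C = (algebraMap (Localization.AtPrime p.asIdeal) C).comp
        (algebraMap A (Localization.AtPrime p.asIdeal)) from rfl, ← Ideal.comap_comap,
      IsLocalRing.eq_maximalIdeal (Ideal.isMaximal_comap_of_isIntegral_of_isMaximal (maximalIdeal C))]
    exact Localization.AtPrime.under_maximalIdeal.symm
  exact PrimeSpectrum.ext ((key P₁ hP).trans (key P₂ rfl).symm)

/-- An integral dominant extension without zero divisors is open at points over unibranch points. -/
theorem isOpenAt_comap_of_unibranch {A B : Type u} [CommRing A] [CommRing B] [IsDomain B] [Algebra A B]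
    [Algebra.IsIntegral A B] (hker : RingHom.ker (algebraMap A B) = nilradical A) (q : PrimeSpectrum B)
    (hu : CAlg2.IsUnibranch (Localization.AtPrime (q.asIdeal.comap (algebraMap A B)))) :
    EGA43.IsOpenAt (PrimeSpectrum.comap (algebraMap A B)) q := by
  let R := CAlg2.red A
  letI : Algebra R B := (Ideal.Quotient.lift (nilradical A) (algebraMap A B)
    fun a ha => RingHom.mem_ker.1 (hker.ge ha)).toAlgebra
  haveI : IsScalarTower A R B := .of_algebraMap_eq fun a => (Ideal.Quotient.lift_mk _ _ _).symm
  have hκ : Function.Injective (algebraMap R B) := Ideal.injective_lift_iff _ |>.2 hker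
  haveI : IsDomain R := hκ.isDomain _
  haveI : Algebra.IsIntegral R B := Algebra.IsIntegral.tower_top A
  let L := FractionRing B
  have hRL : Function.Injective (algebraMap R L) := by
    rw [IsScalarTower.algebraMap_eq R B L]
    exact (IsFractionRing.injective B L).comp hκ
  haveI : FaithfulSMul R L := (faithfulSMul_iff_algebraMap_injective R L).2 hRL
  let _ : Algebra (FractionRing R) L := FractionRing.liftAlgebra R L
  let R' := CAlg2.normRed A
  haveI : IsIntegrallyClosed R' := integralClosure.isIntegrallyClosedOfFiniteExtension (FractionRing R)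
  haveI : Algebra.IsIntegral A R' := Algebra.IsIntegral.trans R
  have hRR : Function.Injective (algebraMap R R') := fun a b h =>
    IsFractionRing.injective R (FractionRing R) (congrArg Subtype.val h)
  have hk' : RingHom.ker (algebraMap A R') = nilradical A := by
    ext a
    rw [RingHom.mem_ker, IsScalarTower.algebraMap_apply A R R', map_eq_zero_iff _ hRR]
    exact Ideal.Quotient.eq_zero_iff_mem
  have hbir : ∀ z : R', ∃ u ∉ nilradical A, ∃ a : A, algebraMap A R' u * z = algebraMap A R' a := fun z => by
    obtain ⟨x, y, hy, hc⟩ := IsFractionRing.div_surjective (A := R) z.1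
    obtain ⟨s, rfl⟩ := Ideal.Quotient.mk_surjective y
    obtain ⟨a, rfl⟩ := Ideal.Quotient.mk_surjective x
    refine ⟨s, fun h => nonZeroDivisors.ne_zero hy (Ideal.Quotient.eq_zero_iff_mem.2 h), a, Subtype.ext ?_⟩
    show algebraMap R (FractionRing R) (Ideal.Quotient.mk _ s) * z.1 =
      algebraMap R (FractionRing R) (Ideal.Quotient.mk _ a)
    rw [← hc, mul_div_cancel₀ _ (IsFractionRing.to_map_ne_zero_of_mem_nonZeroDivisors hy)]
  let C := integralClosure R L
  let _ : Algebra B C := ((algebraMap B L).codRestrict C.toSubring fun b =>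
    (Algebra.IsIntegral.isIntegral (R := R) b).map (IsScalarTower.toAlgHom R B L)).toAlgebra
  haveI : IsScalarTower R B C := .of_algebraMap_eq fun r =>
    Subtype.ext (IsScalarTower.algebraMap_apply R B L r)
  let ι : FractionRing R →ₐ[R] L := IsScalarTower.toAlgHom R (FractionRing R) L
  let _ : Algebra R' C := ((ι.comp (integralClosure R (FractionRing R)).val).codRestrict C fun a =>
    (a.2 : IsIntegral R (a : FractionRing R)).map ι).toRingHom.toAlgebra
  haveI : IsScalarTower R R' C := .of_algebraMap_eq fun r => Subtype.ext (ι.commutes r).symm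
  haveI : Algebra.IsIntegral R' C := Algebra.IsIntegral.tower_top R
  haveI : Algebra.IsIntegral B C := Algebra.IsIntegral.tower_top R
  haveI : FaithfulSMul R' C := (faithfulSMul_iff_algebraMap_injective R' C).2 fun a b h =>
    Subtype.ext (ι.toRingHom.injective (congrArg Subtype.val h))
  have hBC : Function.Injective (algebraMap B C) := fun a b h =>
    IsFractionRing.injective B L (congrArg Subtype.val h)
  have hsurjB : Function.Surjective (PrimeSpectrum.comap (algebraMap B C)) :=
    RingHom.IsIntegral.comap_surjective (algebraMap_isIntegral_iff.2 inferInstance) hBC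
  have hclosed : IsClosedMap (PrimeSpectrum.comap (algebraMap A R')) :=
    PrimeSpectrum.isClosedMap_comap_of_isIntegral _ (algebraMap_isIntegral_iff.2 inferInstance)
  have hsurj : Function.Surjective (PrimeSpectrum.comap (algebraMap A R')) := fun p => by
    obtain ⟨Q, -, hQ, hQc⟩ := Ideal.exists_ideal_over_prime_of_isIntegral p.asIdeal (⊥ : Ideal R')
      (by rw [← RingHom.ker_eq_comap_bot, hk']; exact nilradical_le_prime _)
    exact ⟨⟨Q, hQ⟩, PrimeSpectrum.ext hQc⟩
  have hcomp : PrimeSpectrum.comap (algebraMap A B) ∘ PrimeSpectrum.comap (algebraMap B C) =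
      PrimeSpectrum.comap (algebraMap A R') ∘ PrimeSpectrum.comap (algebraMap R' C) := by
    funext Q
    simp only [Function.comp_apply, ← PrimeSpectrum.comap_comp_apply]
    rw [IsScalarTower.algebraMap_eq A R B, IsScalarTower.algebraMap_eq A R R', ← RingHom.comp_assoc,
      ← RingHom.comp_assoc, ← IsScalarTower.algebraMap_eq R B C, ← IsScalarTower.algebraMap_eq R R' C]
  intro U hU
  obtain ⟨U₀, hU₀, hU₀o, hqU⟩ := mem_nhds_iff.1 hU
  let W := PrimeSpectrum.comap (algebraMap R' C) '' (PrimeSpectrum.comap (algebraMap B C) ⁻¹' U₀)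
  have hWo : IsOpen W := EGA43.UnibranchOpen.isOpenMap_comap_of_isIntegrallyClosed _ (hU₀o.preimage (PrimeSpectrum.continuous_comap _))
  obtain ⟨Q, hQ⟩ := hsurjB q
  have hPp := congrFun hcomp Q
  simp only [Function.comp_apply, hQ] at hPp
  refine Filter.mem_of_superset ((hclosed _ hWo.isClosed_compl).isOpen_compl.mem_nhds ?_) ?_
  · rintro ⟨P', hP'W, hP'⟩
    refine hP'W ⟨Q, show PrimeSpectrum.comap (algebraMap B C) Q ∈ U₀ by rw [hQ]; exact hqU, ?_⟩
    refine (eq_of_comap_eq_of_unibranch hk' hbir P' _ (hP'.trans hPp) ?_).symm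
    exact unibranch_congr (congrArg PrimeSpectrum.asIdeal hPp) hu
  · intro y hy
    obtain ⟨P', rfl⟩ := hsurj y
    obtain ⟨Q', hQ', rfl⟩ : P' ∈ W := by_contra fun h => hy ⟨P', h, rfl⟩
    exact ⟨_, hU₀ hQ', congrFun hcomp Q'⟩

/-- A dominant algebra of finite type without zero divisors is open at quasi-finite points over unibranch points. -/
theorem isOpenAt_comap_of_quasiFinite {A B : Type u} [CommRing A] [CommRing B] [IsDomain B] [Algebra A B]
    [Algebra.FiniteType A B] (hker : RingHom.ker (algebraMap A B) = nilradical A) (q : PrimeSpectrum B)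
    [Algebra.WeaklyQuasiFiniteAt A q.asIdeal]
    (hu : CAlg2.IsUnibranch (Localization.AtPrime (q.asIdeal.comap (algebraMap A B)))) :
    EGA43.IsOpenAt (PrimeSpectrum.comap (algebraMap A B)) q := by
  intro W₀ hW₀
  obtain ⟨W, hWW, hW, hqW⟩ := mem_nhds_iff.1 hW₀
  refine Filter.mem_of_superset ?_ (Set.image_mono hWW)
  obtain ⟨r, hr, hbij⟩ := Algebra.ZariskisMainProperty.of_finiteType_of_weaklyQuasiFiniteAt (R := A) q.asIdeal
  let C := integralClosure A B
  haveI : Algebra.IsIntegral A C := inferInstance
  have hkerC : RingHom.ker (algebraMap A C) = nilradical A := by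
    rw [← hker]; ext a; simp [RingHom.mem_ker, ← Subalgebra.coe_eq_zero]
  let j : C →+* Localization.Away (C.val.toRingHom r) := (algebraMap B _).comp C.val.toRingHom
  have hj : Topology.IsOpenEmbedding (PrimeSpectrum.comap j) := by
    let e := RingEquiv.ofBijective _ hbij
    have he : j = e.toRingHom.comp (algebraMap C (Localization.Away r)) := RingHom.ext fun z => by
      refine Eq.symm ?_
      show Localization.awayMap C.val.toRingHom r _ = _
      exact IsLocalization.map_eq _ z
    rw [he, show PrimeSpectrum.comap (e.toRingHom.comp (algebraMap C (Localization.Away r))) =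
        PrimeSpectrum.comap (algebraMap C (Localization.Away r)) ∘ PrimeSpectrum.comap e.toRingHom from
      funext fun Q => PrimeSpectrum.comap_comp_apply _ _ Q]
    exact (PrimeSpectrum.localization_away_isOpenEmbedding _ r).comp
      (PrimeSpectrum.homeomorphOfRingEquiv e).symm.isOpenEmbedding
  let Br := Localization.Away (C.val.toRingHom r)
  obtain ⟨q', hq'⟩ := (PrimeSpectrum.localization_away_comap_range Br (C.val.toRingHom r)).ge
    (show q ∈ PrimeSpectrum.basicOpen (C.val.toRingHom r) from hr)
  have hqC : q.asIdeal.comap (algebraMap A B) = (PrimeSpectrum.comap j q').asIdeal.comap (algebraMap A C) :=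
    congrArg (fun z : PrimeSpectrum B => z.asIdeal.comap (algebraMap A B)) hq'.symm
  have ho : (PrimeSpectrum.comap (algebraMap A C) ''
      (PrimeSpectrum.comap j '' (PrimeSpectrum.comap (algebraMap B Br) ⁻¹' W))) ∈
      nhds (PrimeSpectrum.comap (algebraMap A C) (PrimeSpectrum.comap j q')) :=
    isOpenAt_comap_of_unibranch hkerC (PrimeSpectrum.comap j q') (unibranch_congr hqC hu) _
      ((hj.isOpenMap _ (hW.preimage (PrimeSpectrum.continuous_comap _))).mem_nhds
        ⟨q', show PrimeSpectrum.comap (algebraMap B Br) q' ∈ W by rw [hq']; exact hqW, rfl⟩)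
  have hc : ∀ Q, PrimeSpectrum.comap (algebraMap A C) (PrimeSpectrum.comap j Q) =
      PrimeSpectrum.comap (algebraMap A B) (PrimeSpectrum.comap (algebraMap B Br) Q) := fun Q => rfl
  rw [(hc q').trans (congrArg _ hq')] at ho
  refine Filter.mem_of_superset ho ?_
  rintro _ ⟨_, ⟨Q, hQ, rfl⟩, rfl⟩
  exact ⟨_, hQ, (hc Q).symm⟩

/-- A local normal domain, integral and birational over the reduction, shows that a local ring is unibranch. -/
theorem isUnibranch_of_normalization {A C : Type u} [CommRing A] [IsLocalRing A] [CommRing C]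
    [IsDomain C] [IsLocalRing C] [IsIntegrallyClosed C] [Algebra A C] [Algebra.IsIntegral A C]
    (hker : RingHom.ker (algebraMap A C) = nilradical A)
    (hbir : ∀ c : C, ∃ s : A, s ∉ nilradical A ∧ ∃ a : A, algebraMap A C s * c = algebraMap A C a) :
    CAlg2.IsUnibranch A := by
  let R := CAlg2.red A
  let κ : R →+* C :=
    Ideal.Quotient.lift (nilradical A) (algebraMap A C) fun a ha => RingHom.mem_ker.1 (hker.symm ▸ ha)
  have hκ : Function.Injective κ := Ideal.injective_lift_iff _ |>.2 hker
  let _ : Algebra R C := κ.toAlgebra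
  haveI : IsScalarTower A R C := .of_algebraMap_eq fun a => (Ideal.Quotient.lift_mk _ _ _).symm
  haveI : Algebra.IsIntegral R C := Algebra.IsIntegral.tower_top A
  haveI : IsDomain R := hκ.isDomain κ
  let L := FractionRing C
  have hRL : Function.Injective (algebraMap R L) := by
    rw [IsScalarTower.algebraMap_eq R C L]
    exact (IsFractionRing.injective C L).comp hκ
  haveI : FaithfulSMul R L := (faithfulSMul_iff_algebraMap_injective R L).mpr hRL
  haveI : IsFractionRing R L := by
    refine IsFractionRing.of_field R L fun z => ?_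
    obtain ⟨c, d, hd, rfl⟩ := IsFractionRing.div_surjective (A := C) z
    obtain ⟨s, hs, a, ha⟩ := hbir c
    obtain ⟨t, ht, b, hb⟩ := hbir d
    let m : A →+* R := Ideal.Quotient.mk (nilradical A)
    have hm : ∀ x ∉ nilradical A, algebraMap R L (m x) ≠ 0 := fun x hx =>
      (map_ne_zero_iff _ hRL).mpr (fun h => hx (Ideal.Quotient.eq_zero_iff_mem.1 h))
    have hmC : ∀ x, algebraMap R C (m x) = algebraMap A C x := fun x => Ideal.Quotient.lift_mk _ _ _
    have hd0 : algebraMap C L d ≠ 0 := IsFractionRing.to_map_ne_zero_of_mem_nonZeroDivisors hd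
    have ha' : algebraMap R L (m s) * algebraMap C L c = algebraMap R L (m a) := by
      rw [IsScalarTower.algebraMap_apply R C L, IsScalarTower.algebraMap_apply R C L, ← map_mul, hmC, hmC, ha]
    have hb' : algebraMap R L (m t) * algebraMap C L d = algebraMap R L (m b) := by
      rw [IsScalarTower.algebraMap_apply R C L, IsScalarTower.algebraMap_apply R C L, ← map_mul, hmC, hmC, hb]
    refine ⟨m a * m t, m s * m b, ?_⟩
    rw [map_mul, map_mul, ← ha', ← hb', div_eq_div_iff hd0 (mul_ne_zero (hm s hs) (mul_ne_zero (hm t ht) hd0))]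
    ring
  let Θ : FractionRing R ≃ₐ[R] L := FractionRing.algEquiv R L
  let h : C →+* CAlg2.normRed A :=
    ((Θ.symm.toRingHom.comp (algebraMap C L))).codRestrict (integralClosure R (FractionRing R)).toSubring fun c =>
      ((Algebra.IsIntegral.isIntegral (R := R) c).map (IsScalarTower.toAlgHom R C L)).map Θ.symm.toAlgHom
  have hh : Function.Bijective h := by
    refine ⟨fun a b hab => IsFractionRing.injective C L (Θ.symm.injective (congrArg Subtype.val hab)), ?_⟩
    rintro ⟨z, hz⟩
    obtain ⟨c, hc⟩ := IsIntegrallyClosed.isIntegral_iff.mp ((hz.map Θ.toAlgHom).tower_top (A := C))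
    exact ⟨c, Subtype.ext (show Θ.symm (algebraMap C L c) = z by rw [hc]; exact Θ.symm_apply_apply z)⟩
  let E := RingEquiv.ofBijective h hh
  haveI : IsLocalRing (CAlg2.normRed A) := IsLocalRing.of_surjective' E.toRingHom E.surjective
  exact ⟨inferInstance, inferInstance⟩

/-- Being unibranch is invariant under isomorphisms. -/
theorem isUnibranch_of_ringEquiv {A B : Type u} [CommRing A] [IsLocalRing A] [CommRing B]
    [IsLocalRing B] (e : A ≃+* B) (hA : CAlg2.IsUnibranch A) : CAlg2.IsUnibranch B := by
  obtain ⟨C, _, _, _, _, _, _, hker, hbir⟩ := exists_normalization' hA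
  let _ : Algebra B C := ((algebraMap A C).comp e.symm.toRingHom).toAlgebra
  have hmap : ∀ b, algebraMap B C b = algebraMap A C (e.symm b) := fun _ => rfl
  haveI : Algebra.IsIntegral B C :=
    ⟨RingHom.IsIntegral.trans e.symm.toRingHom _
      (RingHom.isIntegral_of_surjective _ e.symm.surjective)
      (Algebra.IsIntegral.isIntegral (R := A) (A := C))⟩
  have hnil : ∀ b : B, b ∈ nilradical B ↔ e.symm b ∈ nilradical A := fun b => by
    rw [mem_nilradical, mem_nilradical, IsNilpotent.map_iff e.symm.injective]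
  refine isUnibranch_of_normalization (C := C) ?_ (fun c => ?_)
  · ext b
    rw [RingHom.mem_ker, hmap, hnil, ← hker, RingHom.mem_ker]
  · obtain ⟨s, hs, a, ha⟩ := hbir c
    exact ⟨e s, fun h => hs (by simpa using (hnil _).1 h), e a, by simpa [hmap] using ha⟩


section Scheme
open CategoryTheory AlgebraicGeometry
variable {X Y : Scheme.{u}}

/-- A dominant morphism of irreducible schemes is open at isolated points of fibres over unibranch points. -/
theorem isOpenAt_of_quasiFiniteAt [IrreducibleSpace X] [IrreducibleSpace Y] (f : X ⟶ Y) [LocallyOfFiniteType f]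
    [IsDominant f] (x : X) (hqf : f.QuasiFiniteAt x) (hy : CAlg2.IsUnibranch (Y.presheaf.stalk (f x))) :
    EGA43.IsOpenAt f.base x := by
  intro W₀ hW₀
  obtain ⟨W, hWW, hW, hxW⟩ := mem_nhds_iff.1 hW₀
  refine Filter.mem_of_superset ?_ (Set.image_mono hWW)
  obtain ⟨V, hV, hxV, -⟩ := exists_isAffineOpen_mem_and_subset (x := f x) (U := ⊤) trivial
  obtain ⟨U, hU, hxU, e⟩ := exists_isAffineOpen_mem_and_subset (x := x) (U := f ⁻¹ᵁ V) hxV
  have hηU : genericPoint X ∈ U := (genericPoint_specializes x).mem_open U.isOpen hxU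
  algebraize [(f.appLE V U e).hom]
  haveI : Algebra.FiniteType Γ(Y, V) Γ(X, U) := f.finiteType_appLE hV hU e
  have hq₀ : Algebra.QuasiFiniteAt Γ(Y, V) (hU.primeIdealOf ⟨x, hxU⟩).asIdeal := hqf.quasiFiniteAt hU hV e hxU
  let P := nilradical Γ(X, U)
  haveI : P.IsPrime := by
    show (nilradical Γ(X, U)).IsPrime
    rw [← EGA43.Unibranch.primeIdealOf_genericPoint hU hηU]
    infer_instance
  have hPc : P.comap (algebraMap Γ(Y, V) Γ(X, U)) = nilradical Γ(Y, V) := by
    show (nilradical _).comap _ = _
    rw [← EGA43.Unibranch.primeIdealOf_genericPoint hU hηU, RingHom.algebraMap_toAlgebra,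
      ← EGA43.Unibranch.primeIdealOf_genericPoint hV ((genericPoint_specializes _).mem_open V.isOpen hxV)]
    refine (congrArg PrimeSpectrum.asIdeal (IsAffineOpen.comap_primeIdealOf_appLE V hV U hU e hηU)).trans ?_
    exact congrArg (fun w => (hV.primeIdealOf w).asIdeal) (Subtype.ext (EGA43.Unibranch.map_genericPoint_of_isDominant f))
  let B := Γ(X, U) ⧸ P
  have hker : RingHom.ker (algebraMap Γ(Y, V) B) = nilradical Γ(Y, V) := by
    rw [← hPc, IsScalarTower.algebraMap_eq Γ(Y, V) Γ(X, U) B, ← RingHom.comap_ker]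
    congr 1
    exact Ideal.mk_ker
  let π : PrimeSpectrum B → X := fun Q => hU.fromSpec (PrimeSpectrum.comap (Ideal.Quotient.mk P) Q)
  have hπc : Continuous π := hU.fromSpec.continuous.comp (PrimeSpectrum.continuous_comap _)
  obtain ⟨q, hq⟩ : hU.primeIdealOf ⟨x, hxU⟩ ∈ Set.range (PrimeSpectrum.comap (Ideal.Quotient.mk P)) := by
    rw [range_comap_of_surjective _ _ Ideal.Quotient.mk_surjective, Ideal.mk_ker]
    exact nilradical_le_prime _
  have hqx : π q = x := by
    show hU.fromSpec (PrimeSpectrum.comap (Ideal.Quotient.mk P) q) = x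
    rw [hq, hU.fromSpec_primeIdealOf]
  have hfac : ∀ Q, f (π Q) = hV.fromSpec (PrimeSpectrum.comap (algebraMap Γ(Y, V) B) Q) := fun Q => by
    rw [IsScalarTower.algebraMap_eq Γ(Y, V) Γ(X, U) B, PrimeSpectrum.comap_comp_apply,
      RingHom.algebraMap_toAlgebra]
    exact (congrArg (fun φ : Spec Γ(X, U) ⟶ Y => φ (PrimeSpectrum.comap (Ideal.Quotient.mk P) Q))
      (IsAffineOpen.SpecMap_appLE_fromSpec f hV hU e)).symm
  haveI : q.asIdeal.LiesOver (hU.primeIdealOf ⟨x, hxU⟩).asIdeal := ⟨(congrArg PrimeSpectrum.asIdeal hq).symm⟩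
  haveI : Algebra.QuasiFiniteAt Γ(Y, V) q.asIdeal :=
    Algebra.QuasiFiniteAt.of_surjectiveOnStalks_of_liesOver (hU.primeIdealOf ⟨x, hxU⟩).asIdeal
      (RingHom.surjectiveOnStalks_of_surjective Ideal.Quotient.mk_surjective) q.asIdeal
  have hup : CAlg2.IsUnibranch (Localization.AtPrime (q.asIdeal.comap (algebraMap Γ(Y, V) B))) := by
    have hp : hV.primeIdealOf ⟨f x, hxV⟩ = PrimeSpectrum.comap (algebraMap Γ(Y, V) B) q :=
      hV.fromSpec.isOpenEmbedding.injective ((hV.fromSpec_primeIdealOf ⟨f x, hxV⟩).trans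
        (by show f x = _; rw [← hfac q, hqx]))
    let _ := (Y.presheaf.germ V (f x) hxV).hom.toAlgebra
    haveI := hV.isLocalization_stalk ⟨f x, hxV⟩
    exact unibranch_congr (congrArg PrimeSpectrum.asIdeal hp)
      (isUnibranch_of_ringEquiv (IsLocalization.algEquiv (hV.primeIdealOf ⟨f x, hxV⟩).asIdeal.primeCompl
        (Y.presheaf.stalk (f x)) (Localization.AtPrime (hV.primeIdealOf ⟨f x, hxV⟩).asIdeal)).toRingEquiv hy)
  have ho := hV.fromSpec.isOpenEmbedding.isOpenMap.image_mem_nhds
    (isOpenAt_comap_of_quasiFinite hker q hup _ ((hW.preimage hπc).mem_nhds (show π q ∈ W by rw [hqx]; exact hxW)))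
  rw [← hfac q, hqx] at ho
  refine Filter.mem_of_superset ho ?_
  rintro _ ⟨_, ⟨Q, hQ, rfl⟩, rfl⟩
  exact ⟨π Q, hQ, hfac Q⟩

/-- A point isolated in its fibre is a quasi-finite point. -/
theorem quasiFiniteAt_of_nhdsWithin_eq (f : X ⟶ Y) [LocallyOfFiniteType f] (x : X)
    (h : nhdsWithin x (f.base ⁻¹' {f.base x}) = pure x) : f.QuasiFiniteAt x := by
  rw [Scheme.Hom.quasiFiniteAt_iff_isOpen_singleton_asFiber, ← (f.fiberHomeo (f x)).isOpen_image]
  simp only [Set.image_singleton, Scheme.Hom.asFiber, Homeomorph.apply_symm_apply]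
  have h1 : ({x} : Set X) ∈ nhdsWithin x (f.base ⁻¹' {f.base x}) := by rw [h]; exact Filter.mem_pure.2 rfl
  obtain ⟨O, hO, hxO, hOsub⟩ := mem_nhdsWithin.1 h1
  convert hO.preimage (continuous_subtype_val (p := fun z => z ∈ f ⁻¹' {f x}))
  ext z
  constructor
  · rintro rfl; exact hxO
  · exact fun hz => Subtype.ext (hOsub ⟨hz, z.2⟩)

end Scheme

end Groth.Agent.SGA3Homog26
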