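import Groth.Agent.FlatMorSlice.CM
import Mathlib.RingTheory.Artinian.Module
import Mathlib.RingTheory.LocalRing.Module
import Mathlib.RingTheory.ZariskisMainTheorem
import Mathlib.FieldTheory.IsAlgClosed.AlgebraicClosure
import Mathlib.RingTheory.TensorProduct.Finite
import Mathlib.RingTheory.Flat.Stability

/-!
# A finite free local extension of an artinian base making the points over a closed point rational
-/

set_option autoImplicit false
set_option linter.style.haveILetI false
set_option backward.isDefEq.respectTransparency.types false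
universe u

namespace Groth.Agent.SGA3Homog26
open TensorProduct

lemma isMax_of_isPrime {R : Type*} [CommRing R] [IsArtinianRing R] (I : Ideal R) [hI : I.IsPrime] : I.IsMaximal :=
  (IsArtinianRing.isPrime_iff_isMaximal I).1 hI

/-- A finite local algebra through a closed point at which the algebra is flat with Cohen–Macaulay fibre. -/
theorem exists_local_slice {A B R : Type u} [CommRing A] [IsArtinianRing A] [IsLocalRing A] [CommRing B]
    [Algebra A B] [Algebra.FinitePresentation A B] [CommRing R] [LocCoh.IsCohenMacaulayLocalRing R]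
    (q : Ideal B) [q.IsMaximal] (hq : Module.Flat A (LocalizedModule q.primeCompl B)) {ψ : B →+* R}
    (h : FlatMorSlice.FibPres A q ψ) :
    ∃ (C : Type u) (_ : CommRing C) (_ : IsLocalRing C) (_ : Algebra A C) (_ : Module.Finite A C) (_ : Module.Free A C)
      (σ : B →ₐ[A] C), (IsLocalRing.maximalIdeal C).comap σ = q := by
  obtain ⟨d, hd, rs, hrs, hL, hr⟩ := FlatMorSlice.exists_cm_slice hq h fun r hr hle _ =>
    (Ideal.IsMaximal.eq_of_le ‹q.IsMaximal› hr.ne_top hle).symm
  obtain ⟨-, hfp, hfl, hqf⟩ := hL (Localization.Away d)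
  let I := Ideal.ofList rs
  let C := Localization.Away d ⧸ I.map (algebraMap B (Localization.Away d))
  let σ : B →ₐ[A] C := (Ideal.Quotient.mkₐ A _).comp (IsScalarTower.toAlgHom A B (Localization.Away d))
  haveI : Algebra.QuasiFinite A C := hqf
  haveI : Module.Flat A C := hfl
  haveI : Module.Finite A C := .of_quasiFinite
  -- the unique prime
  have hone : ∀ P : Ideal C, P.IsPrime → P.comap σ = q := by
    intro P hP
    refine hr _ inferInstance ?_ ?_ ?_
    · intro y hy
      show σ y ∈ P
      rw [show σ y = 0 from Ideal.Quotient.eq_zero_iff_mem.2 (Ideal.mem_map_of_mem _ hy)]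
      exact P.zero_mem
    · intro hdP
      exact hP.ne_top (Ideal.eq_top_of_isUnit_mem _ hdP
        ((IsLocalization.Away.algebraMap_isUnit (S := Localization.Away d) d).map (Ideal.Quotient.mk _)))
    · exact (IsLocalRing.eq_maximalIdeal inferInstance).trans (IsLocalRing.eq_maximalIdeal inferInstance).symm
  have hinj : ∀ P P' : Ideal C, P.IsPrime → P'.IsPrime → P = P' := by
    intro P P' hP hP'
    have h1 : (P.comap (Ideal.Quotient.mk (I.map (algebraMap B (Localization.Away d))))) =
        P'.comap (Ideal.Quotient.mk (I.map (algebraMap B (Localization.Away d)))) := by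
      rw [← IsLocalization.map_comap (Submonoid.powers d) (Localization.Away d) (P.comap _),
        ← IsLocalization.map_comap (Submonoid.powers d) (Localization.Away d) (P'.comap _)]
      exact congrArg _ ((hone P hP).trans (hone P' hP').symm)
    exact Ideal.comap_injective_of_surjective _ Ideal.Quotient.mk_surjective h1
  haveI : Nontrivial C := by
    refine Ideal.Quotient.nontrivial_iff.2 fun htop => ?_
    have hqI : I ≤ q := Ideal.span_le.2 hrs
    have h1 := IsLocalization.isPrime_of_isPrime_disjoint (Submonoid.powers d) (Localization.Away d) q inferInstance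
      (Set.disjoint_left.2 fun y ⟨n, hn⟩ hy => hd (Ideal.IsPrime.mem_of_pow_mem inferInstance n (show d ^ n ∈ q by subst hn; exact hy)))
    exact h1.ne_top (top_unique (htop ▸ Ideal.map_mono hqI))
  haveI : Subsingleton (MaximalSpectrum C) := ⟨fun a b => MaximalSpectrum.ext (hinj _ _ a.2.isPrime b.2.isPrime)⟩
  haveI : IsLocalRing C := IsLocalRing.of_singleton_maximalSpectrum
  haveI : Module.Free A C := Module.free_of_flat_of_isLocalRing
  exact ⟨C, inferInstance, inferInstance, inferInstance, inferInstance, inferInstance, σ, hone _ inferInstance⟩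

/-- Realising finitely many embeddings simultaneously in a finite free local algebra. -/
theorem exists_common_base {A C : Type u} [CommRing A] [IsArtinianRing A] [IsLocalRing A] [CommRing C]
    [Algebra A C] [Module.Finite A C] [Module.Free A C] (K : Type u) [Field K] [Algebra A K]
    (E : List (C →ₐ[A] K)) :
    ∃ (A' : Type u) (_ : CommRing A') (_ : IsLocalRing A') (_ : Algebra A A') (_ : Module.Finite A A')
      (_ : Module.Free A A') (τ : A' →ₐ[A] K), RingHom.ker τ = IsLocalRing.maximalIdeal A' ∧
        ∀ σ ∈ E, ∃ g : C →ₐ[A] A', τ.comp g = σ := by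
  induction E with
  | nil =>
    refine ⟨A, inferInstance, inferInstance, inferInstance, inferInstance, inferInstance, Algebra.ofId A K, ?_,
      by simp⟩
    haveI := RingHom.ker_isPrime (Algebra.ofId A K)
    exact IsLocalRing.eq_maximalIdeal (isMax_of_isPrime (RingHom.ker (Algebra.ofId A K)))
  | cons σ E ih =>
    obtain ⟨A₁, _, _, _, _, _, τ₁, -, hE⟩ := ih
    let T := A₁ ⊗[A] C
    let h : T →ₐ[A] K := Algebra.TensorProduct.productMap τ₁ σ
    let p : Ideal T := RingHom.ker h
    haveI : p.IsPrime := RingHom.ker_isPrime h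
    haveI : IsArtinianRing T := IsArtinianRing.of_finite A T
    let A' := Localization.AtPrime p
    haveI : Module.Finite A A' := Module.Finite.of_surjective (IsScalarTower.toAlgHom A T A').toLinearMap
      (IsArtinianRing.localization_surjective p.primeCompl A')
    haveI : Module.Flat T A' := IsLocalization.flat A' p.primeCompl
    haveI : Module.Flat A A' := Module.Flat.trans A T A'
    haveI : Module.Free A A' := Module.free_of_flat_of_isLocalRing
    let τ : A' →ₐ[A] K := IsLocalization.liftAlgHom (M := p.primeCompl) (f := h) fun y =>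
      isUnit_iff_ne_zero.2 y.2
    have hτ : τ.comp (IsScalarTower.toAlgHom A T A') = h := AlgHom.ext fun y => IsLocalization.lift_eq _ y
    refine ⟨A', inferInstance, inferInstance, inferInstance, inferInstance, inferInstance, τ, ?_, ?_⟩
    · haveI : IsArtinianRing A' := IsArtinianRing.of_finite A A'
      haveI : (RingHom.ker τ).IsPrime := RingHom.ker_isPrime τ
      exact IsLocalRing.eq_maximalIdeal (isMax_of_isPrime (RingHom.ker τ))
    · intro σ' hσ'
      rcases List.mem_cons.1 hσ' with rfl | hσ'
      · refine ⟨(IsScalarTower.toAlgHom A T A').comp Algebra.TensorProduct.includeRight, ?_⟩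
        rw [← AlgHom.comp_assoc, hτ, Algebra.TensorProduct.productMap_right]
      · obtain ⟨g, rfl⟩ := hE σ' hσ'
        refine ⟨(IsScalarTower.toAlgHom A T A').comp (Algebra.TensorProduct.includeLeft.comp g), ?_⟩
        rw [← AlgHom.comp_assoc, hτ, ← AlgHom.comp_assoc]
        congr 1
        exact Algebra.TensorProduct.productMap_left _ _

/-- After a finite free local extension all points over a closed point come from sections. -/
theorem exists_split_base {A B R : Type u} [CommRing A] [IsArtinianRing A] [IsLocalRing A] [CommRing B]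
    [Algebra A B] [Algebra.FinitePresentation A B] [CommRing R] [LocCoh.IsCohenMacaulayLocalRing R]
    (q : Ideal B) [q.IsMaximal] (hq : Module.Flat A (LocalizedModule q.primeCompl B)) {ψ : B →+* R}
    (h : FlatMorSlice.FibPres A q ψ) :
    ∃ (A' : Type u) (_ : CommRing A') (_ : IsLocalRing A') (_ : Algebra A A') (_ : Module.Finite A A')
      (_ : Module.Free A A'), ∀ Q : Ideal (B ⊗[A] A'), Q.IsPrime →
        Q.comap Algebra.TensorProduct.includeLeftRingHom = q →
        ∃ g : B →ₐ[A] A', (IsLocalRing.maximalIdeal A').comap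
          (Algebra.TensorProduct.productMap g (AlgHom.id A A')) = Q := by
  classical
  obtain ⟨C, _, _, _, _, _, σ₀, hσ₀⟩ := exists_local_slice q hq h
  let k := IsLocalRing.ResidueField A
  let K := AlgebraicClosure k
  -- the residue field of `C` is that of `q`
  let κ := IsLocalRing.ResidueField C
  let π : B →ₐ[A] κ := (Ideal.Quotient.mkₐ A (IsLocalRing.maximalIdeal C)).comp σ₀
  haveI : IsLocalHom (algebraMap A C) := by
    constructor
    intro a ha
    by_contra hna
    have ha' : a ∈ IsLocalRing.maximalIdeal A := hna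
    obtain ⟨n, hn⟩ := IsArtinianRing.isNilpotent_jacobson_bot (R := A)
    have : a ^ n = 0 := by
      have h1 : a ^ n ∈ (IsLocalRing.maximalIdeal A) ^ n := Ideal.pow_mem_pow ha' n
      rw [← IsLocalRing.jacobson_eq_maximalIdeal ⊥ bot_ne_top, hn] at h1
      exact h1
    have h2 := ha.pow n
    rw [← map_pow, this, map_zero] at h2
    exact not_isUnit_zero h2
  haveI : Module.Finite A κ := Module.Finite.of_surjective (Ideal.Quotient.mkₐ A _).toLinearMap Ideal.Quotient.mk_surjective
  haveI : Module.Finite k κ := Module.Finite.of_restrictScalars_finite A k κ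
  haveI : IsScalarTower A k κ := .of_algebraMap_eq fun _ => rfl
  haveI : Finite (κ →ₐ[A] K) := Finite.of_injective
    (fun f : κ →ₐ[A] K =>
      (AlgHom.mk f.toRingHom (fun c => by
        obtain ⟨a, rfl⟩ := IsLocalRing.residue_surjective c
        exact (f.commutes a).trans rfl) : κ →ₐ[k] K))
    fun f g hfg => AlgHom.ext fun x => congrArg (fun e : κ →ₐ[k] K => e x) hfg
  letI : Fintype (κ →ₐ[A] K) := Fintype.ofFinite _
  obtain ⟨A', _, _, _, _, _, τ, hτ, hE⟩ := exists_common_base K
    ((Finset.univ : Finset (κ →ₐ[A] K)).toList.map fun f => f.comp (Ideal.Quotient.mkₐ A (IsLocalRing.maximalIdeal C)))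
  refine ⟨A', inferInstance, inferInstance, inferInstance, inferInstance, inferInstance, fun Q hQ hQq => ?_⟩
  let F := (B ⊗[A] A') ⧸ Q
  haveI : Module.Finite A (B ⧸ q) := by
    let e : B ⧸ q →ₐ[A] κ := Ideal.Quotient.liftₐ q π fun b hb => by
      have hb' : b ∈ (IsLocalRing.maximalIdeal C).comap σ₀ := hσ₀.symm ▸ hb
      exact Ideal.Quotient.eq_zero_iff_mem.2 hb'
    letI : Field (B ⧸ q) := Ideal.Quotient.field q
    exact Module.Finite.of_injective e.toLinearMap e.toRingHom.injective
  let θ : (B ⧸ q) ⊗[A] A' →ₐ[A] F := Algebra.TensorProduct.productMap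
    (Ideal.Quotient.liftₐ q ((Ideal.Quotient.mkₐ A Q).comp Algebra.TensorProduct.includeLeft) fun b hb => by
      exact Ideal.Quotient.eq_zero_iff_mem.2 (show b ∈ Q.comap Algebra.TensorProduct.includeLeftRingHom from hQq.symm ▸ hb))
    ((Ideal.Quotient.mkₐ A Q).comp Algebra.TensorProduct.includeRight)
  haveI : Module.Finite A F := by
    refine Module.Finite.of_surjective θ.toLinearMap fun y => ?_
    obtain ⟨z, rfl⟩ := Ideal.Quotient.mk_surjective y
    induction z using TensorProduct.induction_on with
    | zero => exact ⟨0, map_zero _⟩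
    | tmul b c =>
      refine ⟨Ideal.Quotient.mk q b ⊗ₜ c, ?_⟩
      show θ (Ideal.Quotient.mk q b ⊗ₜ c) = _
      simp [θ, ← map_mul]
    | add y z hy hz =>
      obtain ⟨y', hy'⟩ := hy
      obtain ⟨z', hz'⟩ := hz
      exact ⟨y' + z', by rw [map_add, hy', hz', map_add]⟩
  haveI : IsArtinianRing F := IsArtinianRing.of_finite A F
  letI : Field F := (IsArtinianRing.isField_of_isDomain F).toField
  -- the embedding of the residue field compatible with `τ`
  let ι₂ : A' →ₐ[A] F := (Ideal.Quotient.mkₐ A Q).comp Algebra.TensorProduct.includeRight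
  let κ' := IsLocalRing.ResidueField A'
  haveI : IsArtinianRing A' := IsArtinianRing.of_finite A A'
  have hker : IsLocalRing.maximalIdeal A' ≤ RingHom.ker ι₂ :=
    haveI := RingHom.ker_isPrime ι₂
    (IsLocalRing.eq_maximalIdeal (isMax_of_isPrime (RingHom.ker ι₂))).ge
  let j : κ' →ₐ[A] F := Ideal.Quotient.liftₐ _ ι₂ fun a ha => hker ha
  let τ' : κ' →ₐ[A] K := Ideal.Quotient.liftₐ _ τ fun a ha => hτ.ge ha
  letI : Algebra κ' F := j.toRingHom.toAlgebra
  letI : Algebra κ' K := τ'.toRingHom.toAlgebra
  haveI : IsScalarTower A κ' F := .of_algebraMap_eq fun a => (j.commutes a).symm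
  haveI : Module.Finite κ' F := Module.Finite.of_restrictScalars_finite A κ' F
  haveI : IsAlgClosed K := AlgebraicClosure.isAlgClosed k
  let Φ' : F →ₐ[κ'] K := IsAlgClosed.lift
  let Φ : B ⊗[A] A' →ₐ[A] K :=
    { Φ'.toRingHom.comp (Ideal.Quotient.mk Q) with
      commutes' := fun a => by
        have h1 : Ideal.Quotient.mk Q (algebraMap A (B ⊗[A] A') a) = algebraMap κ' F (algebraMap A κ' a) :=
          ((Ideal.Quotient.mkₐ A Q).commutes a).trans (j.commutes a).symm
        show Φ' (Ideal.Quotient.mk Q (algebraMap A (B ⊗[A] A') a)) = _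
        rw [h1, Φ'.commutes]
        exact τ'.commutes a }
  have hΦker : RingHom.ker Φ = Q := by
    ext z
    show Φ' (Ideal.Quotient.mk Q z) = 0 ↔ _
    rw [map_eq_zero_iff Φ' (RingHom.injective Φ'.toRingHom), Ideal.Quotient.eq_zero_iff_mem]
  have hΦr : ∀ a : A', Φ (1 ⊗ₜ a) = τ a := fun a => by
    show Φ' (Ideal.Quotient.mk Q (1 ⊗ₜ a)) = _
    exact (Φ'.commutes (Ideal.Quotient.mk _ a)).trans rfl
  -- the embedding of the residue field of the point
  let σB : B →ₐ[A] K := Φ.comp Algebra.TensorProduct.includeLeft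
  have hσB : ∀ b ∈ q, σB b = 0 := fun b hb => by
    have hb' : b ∈ Q.comap Algebra.TensorProduct.includeLeftRingHom := hQq.symm ▸ hb
    exact (show b ⊗ₜ[A] (1 : A') ∈ RingHom.ker Φ from hΦker.symm ▸ hb')
  let e : B ⧸ q →ₐ[A] κ := Ideal.Quotient.liftₐ q π fun b hb => by
    have hb' : b ∈ (IsLocalRing.maximalIdeal C).comap σ₀ := hσ₀.symm ▸ hb
    exact Ideal.Quotient.eq_zero_iff_mem.2 hb'
  letI : Field (B ⧸ q) := Ideal.Quotient.field q
  letI : Algebra (B ⧸ q) κ := e.toRingHom.toAlgebra
  letI : Algebra (B ⧸ q) K := (Ideal.Quotient.liftₐ q σB hσB).toRingHom.toAlgebra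
  haveI : IsScalarTower A (B ⧸ q) κ := .of_algebraMap_eq fun a => (e.commutes a).symm
  haveI : Module.Finite (B ⧸ q) κ := Module.Finite.of_restrictScalars_finite A (B ⧸ q) κ
  let σκ : κ →ₐ[B ⧸ q] K := IsAlgClosed.lift
  let σA : κ →ₐ[A] K :=
    { σκ.toRingHom with
      commutes' := fun a => by
        show σκ (algebraMap A κ a) = _
        rw [← e.commutes a]
        exact (σκ.commutes _).trans ((Ideal.Quotient.liftₐ q σB hσB).commutes a) }
  obtain ⟨g₀, hg₀⟩ := hE (σA.comp (Ideal.Quotient.mkₐ A (IsLocalRing.maximalIdeal C)))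
    (List.mem_map.2 ⟨σA, Finset.mem_toList.2 (Finset.mem_univ _), rfl⟩)
  refine ⟨g₀.comp σ₀, ?_⟩
  have hcomp : τ.comp (Algebra.TensorProduct.productMap (g₀.comp σ₀) (AlgHom.id A A')) = Φ := by
    refine Algebra.TensorProduct.ext' fun b a => ?_
    rw [AlgHom.comp_apply, Algebra.TensorProduct.productMap_apply_tmul, map_mul,
      show b ⊗ₜ[A] a = (b ⊗ₜ 1) * (1 ⊗ₜ a) by simp, map_mul, hΦr]
    congr 1
    show τ (g₀ (σ₀ b)) = _
    rw [← AlgHom.comp_apply, hg₀]
    exact σκ.commutes (Ideal.Quotient.mk q b)
  rw [← hΦker, ← hcomp]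
  ext z
  show _ ∈ IsLocalRing.maximalIdeal A' ↔ τ _ = 0
  rw [← hτ, RingHom.mem_ker]
  rfl

end Groth.Agent.SGA3Homog26
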