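import Groth.Agent.SGA3Homog26.UnivOpenQF
import Groth.Agent.EGA43.Chevalley.Section
import Groth.Agent.EGA43.DvrCrit.OpenFlat
import Groth.Agent.FlatMorSlice.CM
import Groth.Agent.FlatMorQFSplit.Split
import Groth.Agent.FlatMorWeight.Comp

/-!
# Quasi-sections through closed points of fibres (EGA IV 14.5.3 over an arbitrary base)
-/

set_option autoImplicit false
set_option backward.isDefEq.respectTransparency false
set_option linter.style.haveILetI false

universe u

open CategoryTheory CategoryTheory.Limits AlgebraicGeometry TopologicalSpace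

namespace Groth.Agent.SGA3Homog26

open Groth.Agent EGA43.DimFormula

/-- The quasi-finite locus contains a basic open. -/
theorem exists_away_quasiFinite {T R : Type u} [CommRing T] [CommRing R] [Algebra T R] [Algebra.FiniteType T R]
    (q : Ideal R) [q.IsPrime] [Algebra.QuasiFiniteAt T q] :
    ∃ r ∉ q, Algebra.QuasiFinite T (Localization.Away r) ∧ Algebra.FiniteType T (Localization.Away r) := by
  obtain ⟨S', hS', c, hc, hbij⟩ :=
    Algebra.QuasiFiniteAt.exists_fg_and_exists_notMem_and_awayMap_bijective (R := T) q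
  haveI : Module.Finite T S' := ⟨(Submodule.fg_top _).mpr hS'⟩
  haveI : Algebra.QuasiFinite T (Localization.Away c) := .trans _ S' _
  haveI : Algebra.QuasiFinite T (Localization.Away c.1) :=
    .of_surjective_algHom (R := T) (S := Localization.Away c) (Localization.awayMapₐ S'.val c) hbij.2
  haveI : Algebra.FiniteType R (Localization.Away c.1) :=
    IsLocalization.finiteType_of_monoid_fg (Submonoid.powers c.1) _
  exact ⟨c.1, hc, inferInstance, Algebra.FiniteType.trans (S := R) inferInstance ‹_›⟩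

/-- Equations at a closed point of a fibre cutting it out, as a quasi-finite map to affine space. -/
theorem exists_qf_zero {A R : Type u} [CommRing A] [CommRing R] [Algebra A R] [Algebra.FiniteType A R]
    (q : PrimeSpectrum R) (n : ℕ) (hq : EGA43.FibDepth.trd A q = 0)
    (hd : ∀ Q : PrimeSpectrum R, Q.asIdeal ≤ q.asIdeal →
      Q.asIdeal.comap (algebraMap A R) = q.asIdeal.comap (algebraMap A R) → EGA43.FibDepth.trd A Q ≤ n) :
    ∃ (a : ULift.{u} (Fin n) → R) (r : R), (∀ i, a i ∈ q.asIdeal) ∧ r ∉ q.asIdeal ∧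
      ∃ ψ : MvPolynomial (ULift.{u} (Fin n)) A →+* Localization.Away r,
        ψ.comp MvPolynomial.C = algebraMap A (Localization.Away r) ∧
        (∀ i, ψ (MvPolynomial.X i) = algebraMap R (Localization.Away r) (a i)) ∧
        ψ.FiniteType ∧ ψ.QuasiFinite := by
  classical
  obtain ⟨s, hs, hsq, hsd⟩ := EGA43.Chevalley.exists_finset_cut (A := A) q n hq hd n
  let e := s.equivFin
  let a : ULift.{u} (Fin n) → R := fun i =>
    if h : i.down.1 < s.card then (e.symm ⟨i.down.1, h⟩).1 else 0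
  have haq : ∀ i, a i ∈ q.asIdeal := fun i => by
    simp only [a]
    split
    · exact hsq (e.symm _).2
    · exact zero_mem _
  have has : ∀ b ∈ s, ∃ i, a i = b := fun b hb => by
    refine ⟨⟨⟨(e ⟨b, hb⟩).1, (e ⟨b, hb⟩).2.trans_le hs⟩⟩, ?_⟩
    simp only [a]
    rw [dif_pos (e ⟨b, hb⟩).2, Fin.eta, Equiv.symm_apply_apply]
  let T := MvPolynomial (ULift.{u} (Fin n)) A
  let ψ₀ : T →ₐ[A] R := MvPolynomial.aeval a
  let _ := ψ₀.toRingHom.toAlgebra
  haveI : IsScalarTower A T R := .of_algebraMap_eq fun c => (ψ₀.commutes c).symm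
  haveI : Algebra.FiniteType T R := Algebra.FiniteType.of_restrictScalars_finiteType A _ R
  have hX : ∀ i, algebraMap T R (MvPolynomial.X i) = a i := fun i => MvPolynomial.aeval_X a i
  have hA : ∀ Q : Ideal R, Q.comap (algebraMap T R) = q.asIdeal.comap (algebraMap T R) →
      Q.comap (algebraMap A R) = q.asIdeal.comap (algebraMap A R) ∧ (↑s : Set R) ⊆ Q := fun Q hQ => by
    refine ⟨?_, fun b hb => ?_⟩
    · rw [IsScalarTower.algebraMap_eq A T R, ← Ideal.comap_comap, hQ, Ideal.comap_comap]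
    · obtain ⟨i, rfl⟩ := has b hb
      have : MvPolynomial.X i ∈ q.asIdeal.comap (algebraMap T R) := by
        rw [Ideal.mem_comap, hX]; exact haq i
      rw [← hQ, Ideal.mem_comap, hX] at this
      exact this
  haveI : Algebra.QuasiFiniteAt T q.asIdeal := by
    refine FlatMorSlice.quasiFiniteAt_of_isolated q.asIdeal (fun Q hQ hle hc => ?_) (fun Q hQ hle hc => ?_)
    · by_contra hne
      have h1 := EGA43.Chevalley.trd_lt (A := A) (Q := q) (Q' := (⟨Q, hQ⟩ : PrimeSpectrum R)) hle
        (fun h => hne (congrArg PrimeSpectrum.asIdeal h).symm) (hA Q hc).1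
      omega
    · by_contra hne
      have h1 := EGA43.Chevalley.trd_lt (A := A) (Q := (⟨Q, hQ⟩ : PrimeSpectrum R)) (Q' := q) hle
        (fun h => hne (congrArg PrimeSpectrum.asIdeal h)) (hA Q hc).1.symm
      have h2 := hsd ⟨Q, hQ⟩ hle (hA Q hc).1 (hA Q hc).2
      omega
  obtain ⟨c, hc, hcq, hcf⟩ := exists_away_quasiFinite (T := T) q.asIdeal
  refine ⟨a, c, haq, hc, algebraMap T (Localization.Away c), ?_, fun i => ?_,
    RingHom.finiteType_algebraMap.2 hcf, RingHom.quasiFinite_algebraMap.2 hcq⟩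
  · ext b
    show algebraMap T (Localization.Away c) (MvPolynomial.C b) = _
    rw [← MvPolynomial.algebraMap_eq, ← IsScalarTower.algebraMap_apply A T (Localization.Away c)]
  · rw [IsScalarTower.algebraMap_apply T R (Localization.Away c), hX]

set_option maxHeartbeats 1600000 in
/-- EGA IV 14.5.3: an étale-local finite multisection through a closed point of a fibre, where the
morphism is universally open at a generisation of maximal dimension in the fibre. -/
theorem exists_quasiSection {X S : Scheme.{u}} (f : X ⟶ S) [LocallyOfFinitePresentation f] {s : S} {z x : X}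
    (hxs : f x = s) (hzx : z ⤳ x) (he : f z = f x) (hmax : ∀ w, w ⤳ z → f w = f z → w = z)
    (hcl : ∀ x', f x' = f x → x ⤳ x' → x' = x)
    (hd : ∀ w, w ⤳ x → f w = f x → trdAt f w ≤ trdAt f z) (hopen : EGA43.IsUnivOpenAt f z) :
    ∃ (S' S'' : Scheme.{u}) (_ : IsAffine S') (w : S' ⟶ S) (π : S'' ⟶ S') (h : S'' ⟶ X),
      Etale w ∧ IsFinite π ∧ Surjective π ∧ LocallyOfFinitePresentation π ∧ h ≫ f = π ≫ w ∧
      ∃ s'' : S'', (π ≫ w).base ⁻¹' {s} = {s''} ∧ h.base s'' = x ∧ IsIso (h.residueFieldMap s'') := by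
  let n := trdAt f z
  haveI : LocallyOfFiniteType (f.fiberToSpecResidueField (f x)) :=
    inferInstanceAs (LocallyOfFiniteType (Limits.pullback.snd f (S.fromSpecResidueField (f x))))
  have hx0 : DimLib.trdegHom (f.residueFieldMap x).hom = 0 := by
    rw [← f.fiberι_asFiber x, ← EGA43.FibDepth.ptDim_fiber f]
    refine (DimLib.ptDim_eq_zero_iff (k := S.residueField (f x)) (f.fiberToSpecResidueField (f x))
      (f.asFiber x)).2 (isClosed_of_closure_subset fun b hb => ?_)
    have hb' : f.asFiber x ⤳ b := specializes_iff_mem_closure.2 hb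
    refine (f.fiberι (f x)).isEmbedding.injective ?_
    rw [f.fiberι_asFiber]
    refine hcl _ (EGA43.Chevalley.apply_fiberι f _ b) ?_
    have h1 := hb'.map (f.fiberι (f x)).continuous
    rwa [f.fiberι_asFiber] at h1
  -- an affine chart
  obtain ⟨V, hV, hxV, -⟩ := exists_isAffineOpen_mem_and_subset (x := f x) (U := ⊤) (Set.mem_univ _)
  obtain ⟨U, hU, hxU, e'⟩ := exists_isAffineOpen_mem_and_subset (x := x) (U := f ⁻¹ᵁ V) hxV
  have e : U ≤ f ⁻¹ᵁ V := e'
  algebraize [(f.appLE V U e).hom]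
  haveI : Algebra.FiniteType Γ(S, V) Γ(X, U) := f.finiteType_appLE hV hU e
  let A := Γ(S, V)
  let q := hU.primeIdealOf ⟨x, hxU⟩
  let p := hV.primeIdealOf ⟨f x, e hxU⟩
  have hqp : q.asIdeal.comap (algebraMap A Γ(X, U)) = p.asIdeal :=
    EGA43.FibDepth.comap_primeIdealOf f hV hU e hxU
  obtain ⟨a, r, haq, hr, ψ, hψC, hψX, hft, hqf⟩ := exists_qf_zero (A := A) q n
    (by rw [← EGA43.FibDepth.trdegHom_residueFieldMap f hV hU e hxU, hx0]) fun Q hQ hQc => by
      have hw : hU.fromSpec Q ∈ U := hU.range_fromSpec.le ⟨Q, rfl⟩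
      have hQ' : hU.primeIdealOf ⟨_, hw⟩ = Q :=
        hU.fromSpec.isOpenEmbedding.injective (hU.fromSpec_primeIdealOf ⟨_, hw⟩)
      rw [← hQ', ← EGA43.FibDepth.trdegHom_residueFieldMap f hV hU e hw]
      refine hd _ ?_ ?_
      · have h1 := ((PrimeSpectrum.le_iff_specializes Q q).1 hQ).map hU.fromSpec.continuous
        rwa [hU.fromSpec_primeIdealOf] at h1
      · have h3 : (hV.primeIdealOf ⟨f (hU.fromSpec Q), e hw⟩).asIdeal = p.asIdeal := by
          rw [← EGA43.FibDepth.comap_primeIdealOf f hV hU e hw, hQ', ← hqp]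
          exact hQc
        have h4 := congrArg hV.fromSpec (PrimeSpectrum.ext h3)
        rwa [hV.fromSpec_primeIdealOf, hV.fromSpec_primeIdealOf] at h4
  -- the map to affine space
  let T := CommRingCat.of (MvPolynomial (ULift.{u} (Fin n)) A)
  let B := CommRingCat.of (Localization.Away r)
  haveI : IsOpenImmersion (AffineSpace.map (ULift.{u} (Fin n)) hV.fromSpec) :=
    MorphismProperty.of_isPullback (AffineSpace.isPullback_map hV.fromSpec).flip inferInstance
  let j : Spec T ⟶ 𝔸(ULift.{u} (Fin n); S) :=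
    (AffineSpace.SpecIso (ULift.{u} (Fin n)) A).inv ≫ AffineSpace.map _ hV.fromSpec
  let φ : T ⟶ B := CommRingCat.ofHom ψ
  haveI : LocallyQuasiFinite (Spec.map φ) := (HasRingHomProperty.Spec_iff (P := @LocallyQuasiFinite)).2 hqf
  haveI : LocallyOfFiniteType (Spec.map φ) := (HasRingHomProperty.Spec_iff (P := @LocallyOfFiniteType)).2 hft
  let ρ : Γ(X, U) ⟶ B := CommRingCat.ofHom (algebraMap Γ(X, U) (Localization.Away r))
  haveI : IsOpenImmersion (Spec.map ρ) := IsOpenImmersion.of_isLocalization r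
  let h₀ : Spec B ⟶ X := Spec.map ρ ≫ hU.fromSpec
  let u : Spec B ⟶ 𝔸(ULift.{u} (Fin n); S) := Spec.map φ ≫ j
  let aS := 𝔸(ULift.{u} (Fin n); S) ↘ S
  have hu : u ≫ aS = h₀ ≫ f := by
    simp only [u, j, h₀, aS, Category.assoc, AffineSpace.map_over, AffineSpace.SpecIso_inv_over_assoc]
    rw [← IsAffineOpen.SpecMap_appLE_fromSpec f hV hU e, ← Category.assoc, ← Category.assoc,
      ← Spec.map_comp, ← Spec.map_comp]
    congr 2
    refine CommRingCat.hom_ext ?_
    show ψ.comp MvPolynomial.C = (algebraMap Γ(X, U) (Localization.Away r)).comp (f.appLE V U e).hom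
    rw [hψC]
    exact IsScalarTower.algebraMap_eq A Γ(X, U) (Localization.Away r)
  haveI : LocallyQuasiFinite u := inferInstanceAs (LocallyQuasiFinite (Spec.map φ ≫ j))
  haveI : LocallyOfFinitePresentation (u ≫ aS) := by rw [hu]; infer_instance
  haveI : LocallyOfFinitePresentation u := H8Lim.lfp_cancel_right u aS
  obtain ⟨q', hq'⟩ : q ∈ Set.range (PrimeSpectrum.comap (algebraMap Γ(X, U) (Localization.Away r))) := by
    rw [PrimeSpectrum.localization_away_comap_range (Localization.Away r) r]; exact hr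
  have hx' : h₀ q' = x := by
    show hU.fromSpec (PrimeSpectrum.comap (algebraMap Γ(X, U) (Localization.Away r)) q') = x
    rw [hq', hU.fromSpec_primeIdealOf]
  obtain ⟨z', hz'⟩ : z ∈ Set.range h₀ := hzx.mem_open h₀.opensRange.isOpen ⟨q', hx'⟩
  have huo : EGA43.IsUnivOpenAt u q' := by
    refine isUnivOpenAt_of_generic (h₀ ≫ f) u hu (z := z') ?_ ?_ (fun w hw hwf => ?_) ?_ ?_
    · rw [← h₀.isOpenEmbedding.isEmbedding.isInducing.specializes_iff, hz', hx']; exact hzx
    · rw [Scheme.Hom.comp_apply h₀ f, Scheme.Hom.comp_apply h₀ f, hz', hx']; exact he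
    · refine h₀.isOpenEmbedding.injective (Eq.trans ?_ hz'.symm)
      refine hmax _ (hz' ▸ hw.map h₀.continuous) ?_
      rw [← hz', ← Scheme.Hom.comp_apply, ← Scheme.Hom.comp_apply]
      exact hwf
    · exact (EGA43.Chevalley.trdegHom_residueFieldMap_comp h₀ f z').trans (by rw [hz'])
    · exact EGA43.isUnivOpenAt_comp (EGA43.DvrCrit.isUnivOpenAt_of_universallyOpen h₀ z') (hz' ▸ hopen)
  -- cut by the zero section
  let c : T ⟶ CommRingCat.of A := CommRingCat.ofHom (MvPolynomial.eval₂Hom (RingHom.id A) fun _ => 0)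
  haveI : IsClosedImmersion (Spec.map c) := IsClosedImmersion.spec_of_surjective c fun b =>
    ⟨MvPolynomial.C b, MvPolynomial.eval₂Hom_C _ _ b⟩
  let i : Spec (CommRingCat.of A) ⟶ 𝔸(ULift.{u} (Fin n); S) := Spec.map c ≫ j
  have hi : i ≫ aS = hV.fromSpec := by
    simp only [i, j, aS, Category.assoc, AffineSpace.map_over, AffineSpace.SpecIso_inv_over_assoc]
    rw [← Category.assoc, ← Spec.map_comp]
    have : CommRingCat.ofHom (algebraMap A (MvPolynomial (ULift.{u} (Fin n)) A)) ≫ c = 𝟙 _ := by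
      refine CommRingCat.hom_ext (RingHom.ext fun b => ?_)
      exact MvPolynomial.eval₂Hom_C _ _ b
    erw [this]
    rw [Spec.map_id, Category.id_comp]
  have hup : u q' = i p := by
    show j (Spec.map φ q') = j (Spec.map c p)
    refine congrArg j (PrimeSpectrum.ext ?_)
    show q'.asIdeal.comap ψ = p.asIdeal.comap c.hom
    have hqq : q'.asIdeal.comap (algebraMap Γ(X, U) (Localization.Away r)) = q.asIdeal :=
      congrArg PrimeSpectrum.asIdeal hq'
    have key : ∀ P : MvPolynomial (ULift.{u} (Fin n)) A,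
        ψ P - algebraMap A (Localization.Away r) (c.hom P) ∈ q'.asIdeal := fun P => by
      induction P using MvPolynomial.induction_on with
      | C b =>
        show ψ (MvPolynomial.C b) - algebraMap A _ (MvPolynomial.eval₂Hom _ _ (MvPolynomial.C b)) ∈ _
        rw [MvPolynomial.eval₂Hom_C, show ψ (MvPolynomial.C b) = algebraMap A (Localization.Away r) b from
          RingHom.congr_fun hψC b, RingHom.id_apply, sub_self]
        exact zero_mem _
      | add P Q hP hQ =>
        rw [map_add, map_add, map_add, add_sub_add_comm]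
        exact add_mem hP hQ
      | mul_X P i hP =>
        rw [map_mul, map_mul, show c.hom (MvPolynomial.X i) = 0 from MvPolynomial.eval₂Hom_X' _ _ i,
          mul_zero, map_zero, sub_zero, hψX]
        refine Ideal.mul_mem_left _ _ ?_
        have := haq i
        rwa [← hqq] at this
    ext P
    rw [Ideal.mem_comap, Ideal.mem_comap, ← hqp, Ideal.mem_comap, ← hqq, Ideal.mem_comap,
      ← IsScalarTower.algebraMap_apply A Γ(X, U) (Localization.Away r)]
    exact ⟨fun h => (sub_sub_cancel (ψ P) (algebraMap A (Localization.Away r) (c.hom P))) ▸ sub_mem h (key P),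
      fun h => (sub_add_cancel (ψ P) (algebraMap A (Localization.Away r) (c.hom P))) ▸ add_mem (key P) h⟩
  obtain ⟨y, hy1, hy2⟩ := Scheme.Pullback.exists_preimage_pullback (f := u) (g := i) q' p hup
  let π₁ := pullback.snd u i
  have hπo : EGA43.IsUnivOpenAt π₁ y := EGA43.isUnivOpenAt_of_isPullback huo (IsPullback.of_hasPullback u i) hy1
  haveI : LocallyQuasiFinite π₁ := MorphismProperty.pullback_snd _ _ inferInstance
  -- split off the finite piece
  obtain ⟨U', g, u₀, hgy, W, v, hfin, hvW, hv, hvu, huniq⟩ :=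
    FlatMorQFSplit.exists_split_unique π₁ hy2 (π₁.quasiFiniteAt y)
  haveI := hgy.etale
  haveI : LocallyQuasiFinite g := FlatMorWeight.locallyQuasiFinite_of_etale g
  let π₂ := W.ι ≫ pullback.snd π₁ g
  haveI : IsFinite π₂ := hfin
  haveI : LocallyOfFinitePresentation π₂ := inferInstanceAs (LocallyOfFinitePresentation (W.ι ≫ _))
  have himg : Set.range π₂ ∈ nhds u₀ := by
    have h1 := EGA43.isOpenAt_of_isPullback hπo (IsPullback.of_hasPullback π₁ g) hv W
      (W.isOpen.mem_nhds hvW)
    refine Filter.mem_of_superset (by rwa [show (pullback.snd π₁ g).base v = u₀ from hvu] at h1) ?_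
    rintro _ ⟨w, hw, rfl⟩
    exact ⟨⟨w, hw⟩, rfl⟩
  obtain ⟨O₁, hO₁, hO₁o, hu₁⟩ := mem_nhds_iff.1 himg
  obtain ⟨O₂, hO₂, hO₂u⟩ := isDiscrete_iff_forall_mem_exists_isOpen.1 (g.isDiscrete_preimage_singleton p) u₀
    hgy.base_eq
  obtain ⟨S', hS', huS', hS'le⟩ := exists_isAffineOpen_mem_and_subset (x := u₀)
    (U := (⟨O₁ ∩ O₂, hO₁o.inter hO₂⟩ : U'.Opens)) ⟨hu₁, (hO₂u.ge rfl).1⟩
  haveI : IsAffine S'.toScheme := hS'
  let π := π₂ ∣_ S'
  have hvπ : (⟨v, hvW⟩ : W.toScheme) ∈ π₂ ⁻¹ᵁ S' := by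
    show pullback.snd π₁ g v ∈ S'
    rw [hvu]; exact huS'
  refine ⟨S'.toScheme, (π₂ ⁻¹ᵁ S').toScheme, hS', S'.ι ≫ g ≫ hV.fromSpec, π,
    (π₂ ⁻¹ᵁ S').ι ≫ W.ι ≫ pullback.fst π₁ g ≫ pullback.fst u i ≫ h₀, inferInstance,
    IsZariskiLocalAtTarget.restrict ‹IsFinite π₂› S', ⟨fun b => ?_⟩,
    IsZariskiLocalAtTarget.restrict ‹LocallyOfFinitePresentation π₂› S', ?_, ⟨⟨v, hvW⟩, hvπ⟩, ?_, ?_, ?_⟩
  · obtain ⟨w, hw⟩ := hO₁ (hS'le b.2).1
    refine ⟨⟨w, show π₂ w ∈ S' from hw ▸ b.2⟩, S'.ι.isOpenEmbedding.injective ?_⟩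
    rw [← Scheme.Hom.comp_apply, morphismRestrict_ι]
    exact hw
  · rw [morphismRestrict_ι_assoc]
    simp only [Category.assoc, π₂]
    rw [← hu, pullback.condition_assoc, hi, pullback.condition_assoc]
  · ext b
    simp only [Set.mem_preimage, Set.mem_singleton_iff]
    constructor
    · intro hb
      have h1 : hV.fromSpec (g (π₂ b.1)) = hV.fromSpec p := by
        rw [hV.fromSpec_primeIdealOf, show ((⟨f x, e hxU⟩ : ↥V) : S) = s from hxs, ← hb, morphismRestrict_ι_assoc]
        rfl
      have h2 : π₂ b.1 = u₀ := hO₂u.le ⟨(hS'le b.2).2, hV.fromSpec.isOpenEmbedding.injective h1⟩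
      exact Subtype.ext (Subtype.ext (huniq _ b.1.2 h2))
    · rintro rfl
      rw [morphismRestrict_ι_assoc]
      show hV.fromSpec (g (pullback.snd π₁ g v)) = s
      rw [hvu, hgy.base_eq, hV.fromSpec_primeIdealOf]
      exact hxs
  · show h₀ (pullback.fst u i (pullback.fst π₁ g v)) = x
    rw [hv, hy1, hx']
  · haveI : IsImmersion i := inferInstanceAs (IsImmersion (Spec.map c ≫ j))
    have h4 : IsIso ((pullback.fst u i ≫ h₀).residueFieldMap (pullback.fst π₁ g v)) :=
      DimLib.isIso_residueFieldMap_of_isPreimmersion _ _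
    have h3 : IsIso ((pullback.fst π₁ g).residueFieldMap v) :=
      (ConcreteCategory.isIso_iff_bijective _).2 (FlatMorQFSplit.fst_residueFieldMap_bijective π₁ hgy v hvu)
    rw [Scheme.residueFieldMap_comp]
    refine IsIso.comp_isIso' ?_ (DimLib.isIso_residueFieldMap_of_isPreimmersion _ _)
    rw [Scheme.residueFieldMap_comp]
    refine IsIso.comp_isIso' ?_ (DimLib.isIso_residueFieldMap_of_isPreimmersion _ _)
    rw [Scheme.residueFieldMap_comp]
    exact IsIso.comp_isIso' h4 h3

end Groth.Agent.SGA3Homog26
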