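import Groth.Agent.SGA3Homog26.Fibrewise
import Groth.Agent.SGA3cLib.Components
import Groth.Agent.Desc19.Topology
import Groth.Agent.VarietyLib.GeomComponents
import Mathlib.AlgebraicGeometry.PullbackCarrier

/-!
# An open set meeting every component of every fibre generates in two steps
-/

set_option autoImplicit false
set_option linter.style.haveILetI false
set_option backward.isDefEq.respectTransparency.types false
set_option maxHeartbeats 800000
universe u

namespace Groth.Agent.SGA3Homog26
open CategoryTheory CategoryTheory.Limits MonoidalCategory CartesianMonoidalCategory MonObj GrpObj AlgebraicGeometry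

variable {S : Scheme.{u}} {G : Over S} [GrpObj G]

/-- Every point is a product of two points of an open set which is dense in every fibre. -/
theorem exists_mul_eq_of_dense (W : G.left.Opens)
    (hW : ∀ s : S, Dense ((G.hom.fiberι s) ⁻¹' (W : Set G.left))) (g : G.left) :
    ∃ z : (G ⊗ G).left, μ[G].left z = g ∧ (fst G G).left z ∈ W ∧ (snd G G).left z ∈ W := by
  let s := G.hom g
  let sg : Spec (G.left.residueField g) ⟶ Spec (S.residueField s) := Spec.map (G.hom.residueFieldMap g)
  let T : Over S := Over.mk (G.left.fromSpecResidueField g ≫ G.hom)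
  let Y : T ⟶ G := Over.homMk (G.left.fromSpecResidueField g) rfl
  haveI : Subsingleton ↥(Spec (S.residueField s)) := inferInstanceAs (Subsingleton (PrimeSpectrum (S.residueField s)))
  haveI : UniversallyOpen sg := Groth.Agent.Desc19.universallyOpen_of_subsingleton sg
  have hsg : sg ≫ S.fromSpecResidueField s = T.hom :=
    Scheme.Hom.SpecMap_residueFieldMap_fromSpecResidueField G.hom g
  let q : (T ⊗ G).left ⟶ G.hom.fiber s := pullback.lift (pullback.snd T.hom G.hom) (pullback.fst T.hom G.hom ≫ sg) (by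
    rw [Category.assoc, hsg]
    exact pullback.condition.symm)
  have hq : q ≫ G.hom.fiberι s = (snd T G).left := pullback.lift_fst _ _ _
  have hsq : IsPullback q (pullback.fst T.hom G.hom) (G.hom.fiberToSpecResidueField s) sg := by
    refine IsPullback.of_right (h₁₂ := G.hom.fiberι s) (h₂₂ := S.fromSpecResidueField s) (v₁₃ := G.hom) ?_
      (pullback.lift_snd _ _ _) (IsPullback.of_hasPullback _ _)
    rw [hq, hsg]
    exact (IsPullback.of_hasPullback T.hom G.hom).flip
  haveI : UniversallyOpen q := MorphismProperty.of_isPullback hsq.flip ‹UniversallyOpen sg›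
  let D : Set (T ⊗ G).left := (snd T G).left ⁻¹' W
  have hD : Dense D := by
    have : D = q ⁻¹' (G.hom.fiberι s ⁻¹' W) := by
      ext z
      show (snd T G).left z ∈ W ↔ (q ≫ G.hom.fiberι s) z ∈ W
      rw [hq]
    rw [this]
    exact (hW s).preimage q.isOpenMap
  let φ : T ⊗ G ⟶ T ⊗ G := lift (fst T G) ((fst T G ≫ Y) * (snd T G)⁻¹)
  haveI : IsIso φ := by
    refine ⟨lift (fst T G) ((snd T G)⁻¹ * (fst T G ≫ Y)), ?_, ?_⟩ <;>
      ext1 <;> simp [φ, MonObj.comp_mul, GrpObj.comp_inv]
  haveI : IsIso φ.left := inferInstanceAs (IsIso ((Over.forget _).map φ))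
  haveI : Nonempty (T ⊗ G).left := ⟨(lift (𝟙 T) Y).left (IsLocalRing.closedPoint _)⟩
  have hDo : IsOpen D := W.isOpen.preimage (snd T G).left.continuous
  obtain ⟨h, hh, hh'⟩ := hD.inter_open_nonempty (φ.left ⁻¹' D) (hDo.preimage φ.left.continuous)
    (by obtain ⟨d, hd⟩ := hD.nonempty; exact ⟨(inv φ.left) d, by
      show φ.left ((inv φ.left) d) ∈ D
      rw [← Scheme.Hom.comp_apply, IsIso.inv_hom_id]; exact hd⟩)
  let m : T ⊗ G ⟶ G ⊗ G := lift (φ ≫ snd T G) (snd T G)
  refine ⟨m.left h, ?_, ?_, ?_⟩
  · show (m ≫ μ[G]).left h = g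
    have : m ≫ μ[G] = fst T G ≫ Y := by
      rw [← Hom.mul_def]; simp [φ]
    rw [this, Over.comp_left, Scheme.Hom.comp_apply]
    exact Scheme.fromSpecResidueField_apply (X := G.left) g _
  · show (m ≫ fst G G).left h ∈ W
    rw [show m ≫ fst G G = φ ≫ snd T G from lift_fst _ _]
    exact hh
  · show (m ≫ snd G G).left h ∈ W
    rw [show m ≫ snd G G = snd T G from lift_snd _ _]
    exact hh'

omit [GrpObj G] in
/-- An open set containing the maximal points of a fibre is dense in it. -/
theorem dense_fibre_of_maximal (W : Set G.left) (hWo : IsOpen W) (s : S)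
    (h : ∀ g : ↥(G.hom.base ⁻¹' {s}), closure {g} ∈ irreducibleComponents ↥(G.hom.base ⁻¹' {s}) → g.1 ∈ W) :
    Dense (G.hom.fiberι s ⁻¹' W) := by
  intro y
  obtain ⟨ξ, hξ, hξy⟩ := VarietyLib.exists_genericPoints_specializes y
  let e := G.hom.fiberHomeo s
  haveI : QuasiSober ↥(G.hom.base ⁻¹' {s}) := e.symm.isClosedEmbedding.quasiSober
  haveI : T0Space ↥(G.hom.base ⁻¹' {s}) := inferInstance
  have h1 := h (e ξ) (SGA3cLib.homeomorph_mem_genericPoints e hξ)
  exact closure_mono (Set.singleton_subset_iff.2 (show ξ ∈ G.hom.fiberι s ⁻¹' W from h1))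
    (specializes_iff_mem_closure.1 hξy)

end Groth.Agent.SGA3Homog26
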