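import Groth.Agent.SGA3cLib.NeutralOrbit
import Groth.Agent.SGA3Homog26.FlatOrbit
import Groth.Agent.EGA43.FiniteCrit.Limit
import Mathlib.AlgebraicGeometry.AlgClosed.Basic
import Mathlib.AlgebraicGeometry.Noetherian
import Mathlib.FieldTheory.IsAlgClosed.AlgebraicClosure

/-!
# Translating finite sets into dense opens of homogeneous spaces over a field
-/

set_option autoImplicit false
set_option backward.isDefEq.respectTransparency false
set_option linter.style.haveILetI false

universe u

open CategoryTheory CategoryTheory.Limits MonoidalCategory CartesianMonoidalCategory MonObj GrpObj AlgebraicGeometry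
  TopologicalSpace

namespace Groth.Agent.SGA3Homog26

open Groth.Agent

theorem isPullback_whiskerLeft {S : Scheme.{u}} (Y : Over S) {T' T : Over S} (t : T' ⟶ T) :
    IsPullback (Y ◁ t).left (snd Y T').left (snd Y T).left t.left := by
  have h : IsPullback (Y ◁ t) (snd Y T') (snd Y T) t := by
    refine ⟨⟨by simp⟩, ⟨PullbackCone.IsLimit.mk (by simp) (fun c => lift (c.fst ≫ fst Y T) c.snd)
      (fun c => ?_) (fun c => by simp) (fun c m h1 h2 => ?_)⟩⟩
    · apply CartesianMonoidalCategory.hom_ext
      · simp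
      · simp [c.condition]
    · apply CartesianMonoidalCategory.hom_ext
      · rw [← h1]; simp
      · rw [← h2]; simp
  exact h.map (Over.forget _)

/-- A maximal point of a locally noetherian scheme lies in every dense open. -/
theorem mem_of_dense {X : Scheme.{u}} [IsLocallyNoetherian X] (U : X.Opens) (hU : Dense (U : Set X)) {ξ : X}
    (hξ : ξ ∈ genericPoints X) : ξ ∈ U := by
  have hret : IsRetrocompact (U : Set X) :=
    IsRetrocompact_iff_isSpectralMap_subtypeVal.mpr U.ι.isSpectralMap
  obtain ⟨y, hy, hys⟩ := SGA3cLib.exists_specializes_of_mem_closure U hret (hU ξ)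
  rwa [VarietyLib.eq_of_specializes_genericPoints hξ hys] at hy

variable {k : Type u} [Field k] {G X : Over (Spec (CommRingCat.of k))} [GrpObj G]
  [LocallyOfFiniteType G.hom] [LocallyOfFiniteType X.hom]

set_option maxHeartbeats 800000 in
/-- A closed point of the group translating a finite set into a dense open. -/
theorem exists_closed_translate (a : AlgGrp.Action G X) (hΦ : Surjective (lift a.act (snd G X)).left)
    (U : X.left.Opens) (hU : Dense (U : Set X.left)) (W : G.left.Opens)
    (hW : η[G].left (IsLocalRing.closedPoint k) ∈ W) (A : Set X.left) (hA : A.Finite) :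
    ∃ g ∈ W, IsClosed ({g} : Set G.left) ∧
      ∀ p : ↥(G ⊗ X).left, (fst G X).left p = g → (snd G X).left p ∈ A → a.act.left p ∈ U := by
  classical
  haveI : IsLocallyNoetherian X.left := LocallyOfFiniteType.isLocallyNoetherian X.hom
  haveI : JacobsonSpace X.left := LocallyOfFiniteType.jacobsonSpace X.hom
  haveI : JacobsonSpace G.left := LocallyOfFiniteType.jacobsonSpace G.hom
  let Ω := AlgebraicClosure k
  let sΩ : Spec (CommRingCat.of Ω) ⟶ Spec (CommRingCat.of k) :=
    Spec.map (CommRingCat.ofHom (algebraMap k Ω))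
  haveI hint : IsIntegralHom sΩ := IsIntegralHom.SpecMap_iff.2 fun x => Algebra.IsIntegral.isIntegral x
  haveI : Surjective sΩ := ⟨fun x => ⟨IsLocalRing.closedPoint Ω, Subsingleton.elim _ _⟩⟩
  let T : Over (Spec (CommRingCat.of k)) := Over.mk sΩ
  let pt : T.left := IsLocalRing.closedPoint Ω
  haveI : IsIntegralHom (fst G T).left := MorphismProperty.pullback_fst _ _ hint
  -- closed specialisations and their geometric points
  have hpts : ∀ x : X.left, ∃ xb : T ⟶ X, x ⤳ xb.left pt := fun x => by
    obtain ⟨x₀, hx₀, hx₀c⟩ := nonempty_inter_closedPoints ⟨x, subset_closure (Set.mem_singleton x)⟩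
      (isClosed_closure (s := ({x} : Set X.left))).isLocallyClosed
    haveI : LocallyOfFiniteType (pullback.snd X.hom sΩ) := inferInstance
    haveI : JacobsonSpace ↥(pullback X.hom sΩ) := LocallyOfFiniteType.jacobsonSpace (pullback.snd X.hom sΩ)
    have hne : ((pullback.fst X.hom sΩ) ⁻¹' {x₀}).Nonempty := by
      obtain ⟨y, hy⟩ := (pullback.fst X.hom sΩ).surjective x₀
      exact ⟨y, hy⟩
    obtain ⟨y, hy, hyc⟩ := nonempty_inter_closedPoints hne
      ((hx₀c.preimage (pullback.fst X.hom sΩ).continuous).isLocallyClosed)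
    refine ⟨Over.homMk (pointOfClosedPoint (pullback.snd X.hom sΩ) y hyc ≫ pullback.fst X.hom sΩ) ?_, ?_⟩
    · rw [Category.assoc, pullback.condition, pointOfClosedPoint_comp_assoc]
      rfl
    · show x ⤳ pullback.fst X.hom sΩ (pointOfClosedPoint (pullback.snd X.hom sΩ) y hyc pt)
      rw [pointOfClosedPoint_apply, show pullback.fst X.hom sΩ y = x₀ from hy]
      exact specializes_iff_mem_closure.2 hx₀
  choose xb hxb using hpts
  -- the neutral component
  obtain ⟨θ, hθ, hθe⟩ := VarietyLib.exists_genericPoints_specializes (α := ↥(G ⊗ T).left)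
    ((lift (1 : T ⟶ G) (𝟙 T)).left pt)
  let θ₀ : G.left := (fst G T).left θ
  have hθ₀ : θ₀ ∈ genericPoints G.left :=
    VarietyLib.generalizing_genericPoints (SGA3cLib.generalizingMap_fst Ω sΩ) hθ
  have hθ₀e : θ₀ ⤳ η[G].left (IsLocalRing.closedPoint k) := by
    have h1 := hθe.map (fst G T).left.continuous
    rw [SGA3cLib.fst_lift_id, Hom.one_def] at h1
    have h2 : (toUnit T ≫ η[G]).left.base pt = η[G].left.base (IsLocalRing.closedPoint k) :=
      congrArg η[G].left.base (Subsingleton.elim (α := ↥(Spec (CommRingCat.of k))) _ _)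
    rwa [h2] at h1
  -- the bad sets
  let C : X.left → Set G.left := fun x =>
    (fst G T).left '' (((G ◁ xb x) ≫ a.act).left ⁻¹' (U : Set X.left)ᶜ)
  have hCc : ∀ x, IsClosed (C x) := fun x =>
    (fst G T).left.isClosedMap _ (U.isOpen.isClosed_compl.preimage ((G ◁ xb x) ≫ a.act).left.continuous)
  have hCθ : ∀ x, θ₀ ∉ C x := by
    rintro x ⟨c, hc, hcθ⟩
    obtain ⟨ω, hω, hωc⟩ := VarietyLib.exists_genericPoints_specializes c
    have h1 : (fst G T).left ω = θ₀ :=
      VarietyLib.eq_of_specializes_genericPoints hθ₀ (hcθ ▸ hωc.map (fst G T).left.continuous)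
    have h2 : ω = c := EGA43.FiniteCrit.eq_of_specializes_integral (fst G T).left hωc (h1.trans hcθ.symm)
    have h3 : ω = θ := SGA3cLib.eq_of_fst_eq_of_rational (SGA3cLib.regAction G)
      (SGA3cLib.surjective_regAction _) η[G] θ₀ hθ₀e Ω sΩ hω hθ h1 rfl
    have h4 := VarietyLib.generalizing_genericPoints (SGA3cLib.generalizingMap_fst Ω sΩ)
      (SGA3cLib.orbit_mem_genericPoints a hΦ Ω sΩ (xb x) hθ hθe)
    have h5 := mem_of_dense U hU h4
    refine hc ?_
    rw [← h2, h3]
    have e : (G ◁ xb x) ≫ a.act = lift (SGA3cLib.smulPt a (fst G T) (snd G T ≫ xb x)) (snd G T) ≫ fst X T := by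
      rw [lift_fst, SGA3cLib.smulPt]
      congr 1
    show ((G ◁ xb x) ≫ a.act).left θ ∈ U
    rw [e, Over.comp_left, Scheme.Hom.comp_apply]
    exact h5
  -- a good closed point
  let Y : Set G.left := ⋃ x ∈ A, C x
  have hY : IsClosed Y := hA.isClosed_biUnion fun x _ => hCc x
  obtain ⟨g, ⟨hgW, hgY⟩, hgc⟩ := nonempty_inter_closedPoints (Z := (W : Set G.left) \ Y)
    ⟨θ₀, hθ₀e.mem_open W.isOpen hW, by simp [Y, hCθ]⟩
    (W.isOpen.sdiff hY).isLocallyClosed
  refine ⟨g, hgW, hgc, fun p hp hpA => ?_⟩
  let x := (snd G X).left p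
  -- the fibre over the closed point
  let Tg : Over (Spec (CommRingCat.of k)) := Over.mk (G.left.fromSpecResidueField g ≫ G.hom)
  let ig : Tg ⟶ G := Over.homMk (G.left.fromSpecResidueField g)
  haveI : IsClosedImmersion (G.left.fromSpecResidueField g) := isClosed_singleton_iff_isClosedImmersion.mp hgc
  haveI : IsFinite Tg.hom := by
    show IsFinite (G.left.fromSpecResidueField g ≫ G.hom)
    rw [isFinite_iff_locallyOfFiniteType_of_jacobsonSpace]
    infer_instance
  haveI : IsIntegralHom (snd Tg X).left :=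
    MorphismProperty.pullback_snd (P := @IsIntegralHom) _ _ (inferInstanceAs (IsIntegralHom Tg.hom))
  obtain ⟨p', hp', -⟩ := Scheme.exists_preimage_of_isPullback (isPullback_whiskerRight ig X) p
    (IsLocalRing.closedPoint _) (hp.trans (Scheme.fromSpecResidueField_apply _ _).symm)
  have hsnd : ∀ q, (snd Tg X).left q = (snd G X).left ((ig ▷ X).left q) := fun q => by
    rw [← Scheme.Hom.comp_apply, ← Over.comp_left, whiskerRight_snd]
  obtain ⟨q, hq, hqx⟩ := (snd Tg X).left.isClosedMap.specializingMap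
    (show (snd Tg X).left p' ⤳ (xb x).left pt by rw [hsnd, hp']; exact hxb x)
  let p₀ := (ig ▷ X).left q
  have hpp₀ : p ⤳ p₀ := hp' ▸ hq.map (ig ▷ X).left.continuous
  have hp₀g : (fst G X).left p₀ = g := by
    show (fst G X).left ((ig ▷ X).left q) = g
    rw [← Scheme.Hom.comp_apply (ig ▷ X).left (fst G X).left, (isPullback_whiskerRight ig X).w,
      Scheme.Hom.comp_apply]
    exact Scheme.fromSpecResidueField_apply _ _
  suffices h : a.act.left p₀ ∈ U from (hpp₀.map a.act.left.continuous).mem_open U.isOpen h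
  obtain ⟨c, hc, -⟩ := Scheme.exists_preimage_of_isPullback (isPullback_whiskerLeft G (xb x)) p₀ pt
    (by rw [← hsnd]; exact hqx)
  by_contra hcon
  refine hgY (Set.mem_biUnion hpA ⟨c, ?_, ?_⟩)
  · show a.act.left ((G ◁ xb x).left c) ∉ U
    rw [hc]; exact hcon
  · rw [← hp₀g, ← hc, ← Scheme.Hom.comp_apply (G ◁ xb x).left, ← Over.comp_left, whiskerLeft_fst]

end Groth.Agent.SGA3Homog26
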