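import Groth.Agent.EGA43.DimFormula.AffineSp
import Groth.Agent.EGA43.DimFormula.ValFibre
import Groth.Agent.EGA43.DimFormula.Charts
import Groth.Agent.EGA43.FiniteCrit.NormalBase
import Groth.Agent.EGA43.UnivOpenLocal.Basic
import Groth.Agent.EGA43.UnivOpen.Dvr
import Groth.Agent.EGA43.Chevalley.SetDim
import Groth.Agent.ValCritLib.Refined
import Groth.Agent.H8Lim.FinitePresentation

/-!
# Quasi-finite morphisms to affine space are universally open below univ. open generic points
(EGA IV 14.4.4 over an arbitrary base)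
-/

set_option autoImplicit false
set_option backward.isDefEq.respectTransparency false
set_option linter.style.haveILetI false

universe u

open CategoryTheory CategoryTheory.Limits AlgebraicGeometry TopologicalSpace

namespace Groth.Agent.SGA3Homog26

open Groth.Agent EGA43.DimFormula

theorem genericPoint_le_of_isMaximalPt {X : Scheme.{u}} [IrreducibleSpace X] {x : X}
    (h : FlatMorWeight.IsMaximalPt x) : genericPoint X = x :=
  h _ (genericPoint_specializes x)

theorem isMaximalPt_genericPoint' {X : Scheme.{u}} [IrreducibleSpace X] : FlatMorWeight.IsMaximalPt (genericPoint X) :=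
  fun z hz => (hz.antisymm (genericPoint_specializes z)).eq

theorem flat_spec_of_field {K L : Type u} [Field K] [Field L] (φ : CommRingCat.of K ⟶ CommRingCat.of L) :
    Flat (Spec.map φ) :=
  (HasRingHomProperty.Spec_iff (P := @Flat)).2 (by
    algebraize [φ.hom]
    exact RingHom.flat_algebraMap_iff.2 inferInstance)

theorem trdAt_id {X : Scheme.{u}} (x : X) : trdAt (𝟙 X) x = 0 := by
  show DimLib.trdegHom ((𝟙 X : X ⟶ X).residueFieldMap x).hom = 0
  rw [Scheme.residueFieldMap_id]
  show DimLib.trdegHom (algebraMap (X.residueField x) (X.residueField x)) = 0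
  rw [DimLib.trdegHom_algebraMap, trdeg_eq_zero, map_zero]

/-- The valuation ring case: generisations lift at specialisations of universally open points whose
image is generic in affine space. -/
theorem exists_generization_valuation {V : Type u} [CommRing V] [IsDomain V] [ValuationRing V] {n : ℕ}
    {X : Scheme.{u}} (u : X ⟶ 𝔸(ULift.{u} (Fin n); Spec (CommRingCat.of V))) [LocallyQuasiFinite u]
    [LocallyOfFiniteType u] (f : X ⟶ Spec (CommRingCat.of V)) [LocallyOfFiniteType f]
    (hu : u ≫ (𝔸(ULift.{u} (Fin n); Spec (CommRingCat.of V)) ↘ _) = f) {z' x : X} (hzx : z' ⤳ x)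
    (hz : EGA43.IsUnivOpenAt f z') (ht : trdAt f z' = n) {W' : Scheme.{u}}
    (g : W' ⟶ 𝔸(ULift.{u} (Fin n); Spec (CommRingCat.of V))) (r : ↥(pullback u g)) (hr : pullback.fst u g r = x)
    {v : W'} (hv : v ⤳ pullback.snd u g r) :
    ∃ r', r' ⤳ r ∧ pullback.snd u g r' = v := by
  let S := Spec (CommRingCat.of V)
  let a := 𝔸(ULift.{u} (Fin n); S) ↘ S
  -- a maximal point above `z'` in the generic fibre
  obtain ⟨w, hw, hwη⟩ : ∃ w, w ⤳ z' ∧ f w = genericPoint S := by
    obtain ⟨t, ht'⟩ := (pullback.fst f (𝟙 S)).homeomorph.surjective z'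
    obtain ⟨s, hs, hsη⟩ := EGA43.UnivOpen.exists_generization_of_isUnivOpenAt f hz (𝟙 S) (x' := t) ht'
      (y' := genericPoint S) (genericPoint_specializes _)
    refine ⟨pullback.fst f (𝟙 S) s, ht' ▸ hs.map (pullback.fst f (𝟙 S)).continuous, ?_⟩
    rw [← Scheme.Hom.comp_apply, pullback.condition, Category.comp_id]
    exact hsη
  obtain ⟨ξ, hξw, C, hC, hgen⟩ := FlatMorWeight.exists_isMaximalPt_specializes w
  have hξη : f ξ = genericPoint S := by
    have h1 : f ξ ⤳ genericPoint S := hwη ▸ hξw.map f.continuous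
    exact isMaximalPt_genericPoint' _ h1
  have hn : trdAt a (u ξ) = n := by
    refine le_antisymm (trdAt_affineSpace_le n _) ?_
    have h1 := trdAt_le_of_valuationRing f (hξw.trans hw) hξη
    rw [ht] at h1
    have h2 : trdAt (u ≫ a) ξ = trdAt a (u ξ) := trdAt_comp_locallyQuasiFinite u a ξ
    rw [hu] at h2
    omega
  have hmaxu : FlatMorWeight.IsMaximalPt (u ξ) := by
    refine (isMaximalPt_affineSpace_iff n (u ξ)).2 ⟨?_, hn⟩
    rw [show a (u ξ) = genericPoint S by rw [← Scheme.Hom.comp_apply, hu]; exact hξη]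
    exact isMaximalPt_genericPoint'
  -- read in the spectrum of the normal polynomial ring
  let O := MvPolynomial (ULift.{u} (Fin n)) V
  haveI : IsIntegrallyClosed V := inferInstance
  haveI : IsIntegrallyClosed O := EGA43.FiniteCrit.isIntegrallyClosed_mvPolynomial V n
  let ε := AffineSpace.SpecIso (ULift.{u} (Fin n)) (CommRingCat.of V)
  let s : X ⟶ Spec (CommRingCat.of O) := u ≫ ε.hom
  haveI : LocallyQuasiFinite s := inferInstanceAs (LocallyQuasiFinite (u ≫ ε.hom))
  have sq : IsPullback (pullback.fst u g) (pullback.snd u g) s (g ≫ ε.hom) :=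
    IsPullback.of_iso (IsPullback.of_hasPullback u g) (Iso.refl _) (Iso.refl _) (Iso.refl _) ε (by simp) (by simp)
      (by simp [s]) (by simp)
  have hmaxs : FlatMorWeight.IsMaximalPt (s ξ) := fun q hq => by
    have h1 : ε.inv q ⤳ u ξ := by
      have := hq.map ε.inv.continuous
      rwa [show s ξ = ε.hom (u ξ) from Scheme.Hom.comp_apply _ _ _, ← Scheme.Hom.comp_apply, Iso.hom_inv_id] at this
    have h2 := congrArg ε.hom (hmaxu _ h1)
    rwa [← Scheme.Hom.comp_apply, Iso.inv_hom_id] at h2
  have hd : ∀ x', DimLib.trdegHom (s.residueFieldMap x').hom = 0 := fun x' => by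
    have h1 := trdAt_comp_locallyQuasiFinite s (𝟙 _) x'
    rw [Category.comp_id] at h1
    exact h1.trans (trdAt_id _)
  obtain ⟨y, hy, hy'⟩ := EGA43.FiniteCrit.exists_generization_pullback_of_normal s (ζ := ξ) (p := x)
    ((hξw.trans hw).trans hzx) hmaxs (fun x' _ _ _ => (hd x').trans_le (Nat.zero_le _)) (g ≫ ε.hom) (sq.isoPullback.hom r)
    (by rw [← Scheme.Hom.comp_apply, sq.isoPullback_hom_fst]; exact hr)
    (v := v) (by rw [← Scheme.Hom.comp_apply, sq.isoPullback_hom_snd]; exact hv)
  · refine ⟨sq.isoPullback.inv y, ?_, ?_⟩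
    · have h1 := hy.map sq.isoPullback.inv.continuous
      rwa [← Scheme.Hom.comp_apply, Iso.hom_inv_id] at h1
    · rw [← Scheme.Hom.comp_apply, sq.isoPullback_inv_snd]; exact hy'

/-- A point with a prescribed image maximal in the fibre of the base change, with the same
transcendence degree. -/
theorem exists_lift_trdAt {X Y Y' : Scheme.{u}} (f : X ⟶ Y) [LocallyOfFiniteType f] (g : Y' ⟶ Y) {z x : X} (hzx : z ⤳ x)
    (he : f z = f x) (hmax : ∀ w, w ⤳ z → f w = f z → w = z) (x' : ↥(pullback f g)) (hx' : pullback.fst f g x' = x) :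
    ∃ z', z' ⤳ x' ∧ pullback.fst f g z' = z ∧ trdAt (pullback.snd f g) z' = trdAt f z := by
  let f' := pullback.snd f g
  let v := f' x'
  let y := g v
  let b : Spec (Y'.residueField v) ⟶ Spec (Y.residueField y) := Spec.map (g.residueFieldMap v)
  have sq : IsPullback (f'.fiberι v ≫ pullback.fst f g) (f'.fiberToSpecResidueField v) f
      (Y'.fromSpecResidueField v ≫ g) :=
    (IsPullback.of_hasPullback f' (Y'.fromSpecResidueField v)).paste_horiz (IsPullback.of_hasPullback f g)
  have hb : b ≫ Y.fromSpecResidueField y = Y'.fromSpecResidueField v ≫ g :=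
    g.SpecMap_residueFieldMap_fromSpecResidueField v
  have hl : (f'.fiberι v ≫ pullback.fst f g) ≫ f =
      (f'.fiberToSpecResidueField v ≫ b) ≫ Y.fromSpecResidueField y := by
    rw [sq.w, Category.assoc, hb]
  let l : f'.fiber v ⟶ f.fiber y := pullback.lift _ _ hl
  have hlι : l ≫ f.fiberι y = f'.fiberι v ≫ pullback.fst f g := pullback.lift_fst _ _ _
  have sq' : IsPullback l (f'.fiberToSpecResidueField v) (f.fiberToSpecResidueField y) b := by
    refine IsPullback.of_right ?_ (pullback.lift_snd _ _ _) (IsPullback.of_hasPullback f (Y.fromSpecResidueField y))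
    rw [hb, pullback.lift_fst]
    exact sq
  haveI : Flat b := flat_spec_of_field _
  haveI : Flat l := MorphismProperty.of_isPullback (P := @Flat) sq'.flip ‹Flat b›
  have hyx : y = f x := by
    show g (f' x') = f x
    rw [← hx', ← Scheme.Hom.comp_apply, ← Scheme.Hom.comp_apply, pullback.condition]
  obtain ⟨a, ha⟩ : z ∈ Set.range (f.fiberι y) := by rw [f.range_fiberι]; exact he.trans hyx.symm
  let q := f'.asFiber x'
  have hlq : f.fiberι y (l q) = x := by
    rw [← Scheme.Hom.comp_apply, hlι, Scheme.Hom.comp_apply, f'.fiberι_asFiber]; exact hx'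
  have hal : a ⤳ l q := by
    rw [← (f.fiberι y).isEmbedding.isInducing.specializes_iff, ha, hlq]; exact hzx
  obtain ⟨z₁, hz₁, hz₁a⟩ := Flat.generalizingMap l hal
  have h1 : f'.fiberι v z₁ ⤳ x' := by
    have := hz₁.map (f'.fiberι v).continuous
    rwa [f'.fiberι_asFiber] at this
  have h2 : f' (f'.fiberι v z₁) = v := EGA43.Chevalley.apply_fiberι f' v z₁
  have h3 : pullback.fst f g (f'.fiberι v z₁) = z := by
    rw [← Scheme.Hom.comp_apply, ← hlι, Scheme.Hom.comp_apply, hz₁a, ha]
  obtain ⟨z₂, hz₂, hz₂v, hz₂max⟩ := EGA43.Chevalley.exists_maximal_in_fibre f' (f'.fiberι v z₁)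
  have hp := EGA43.DimFormula.trdAt_pullback_of_maximal f g z₂ fun w hw hwe => hz₂max w hw (hwe.trans hz₂v)
  have h4 : pullback.fst f g z₂ = z := by
    refine hmax _ (h3 ▸ hz₂.map (pullback.fst f g).continuous) ?_
    rw [← h3, ← Scheme.Hom.comp_apply, ← Scheme.Hom.comp_apply, pullback.condition, Scheme.Hom.comp_apply,
      Scheme.Hom.comp_apply]
    exact congrArg g hz₂v
  exact ⟨z₂, hz₂.trans h1, h4, hp.1.trans (by rw [h4])⟩

/-- Generisations lift in every base change. -/
theorem isUnivOpenAt_of_generic {X S : Scheme.{u}} (f : X ⟶ S) [LocallyOfFinitePresentation f] {n : ℕ}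
    (u : X ⟶ 𝔸(ULift.{u} (Fin n); S)) [LocallyQuasiFinite u] (hu : u ≫ (𝔸(ULift.{u} (Fin n); S) ↘ S) = f)
    {z x : X} (hzx : z ⤳ x) (he : f z = f x) (hmax : ∀ w, w ⤳ z → f w = f z → w = z) (ht : trdAt f z = n)
    (hz : EGA43.IsUnivOpenAt f z) : EGA43.IsUnivOpenAt u x := by
  haveI : LocallyOfFinitePresentation (u ≫ (𝔸(ULift.{u} (Fin n); S) ↘ S)) := by rw [hu]; infer_instance
  haveI : LocallyOfFinitePresentation u := H8Lim.lfp_cancel_right u (𝔸(ULift.{u} (Fin n); S) ↘ S)
  intro Y' g x' hx'
  refine EGA43.UnivOpenLocal.isOpenAt_of_forall_generization (pullback.snd u g) x' fun U hU hxU y hy => ?_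
  obtain ⟨V, ψ, hψ, hψc⟩ := ValCritLib.exists_valuation_of_specializes (𝟙 Y') y (pullback.snd u g x') hy
  let η₀ : Spec (CommRingCat.of V) := Spec.map (CommRingCat.ofHom V.subtype) (IsLocalRing.closedPoint _)
  have hη₀ : ψ η₀ = y := by
    rw [← Scheme.Hom.comp_apply, hψ, Category.comp_id]
    exact Scheme.fromSpecResidueField_apply _ _
  let c : Spec (CommRingCat.of V) := IsLocalRing.closedPoint V
  let τ : Spec (CommRingCat.of V) ⟶ 𝔸(ULift.{u} (Fin n); S) := ψ ≫ g
  let a := 𝔸(ULift.{u} (Fin n); S) ↘ S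
  let sV : Spec (CommRingCat.of V) ⟶ S := τ ≫ a
  have sqA := AffineSpace.isPullback_map (n := ULift.{u} (Fin n)) sV
  let σ := sqA.lift τ (𝟙 _) (Category.id_comp _).symm
  let uV : pullback f sV ⟶ 𝔸(ULift.{u} (Fin n); Spec (CommRingCat.of V)) :=
    sqA.lift (pullback.fst f sV ≫ u) (pullback.snd f sV) (by rw [Category.assoc, hu, pullback.condition])
  have huV : uV ≫ (𝔸(ULift.{u} (Fin n); Spec (CommRingCat.of V)) ↘ _) = pullback.snd f sV := sqA.lift_snd _ _ _
  have sqX : IsPullback (pullback.fst f sV) uV u (AffineSpace.map _ sV) := by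
    refine IsPullback.of_bot ?_ (sqA.lift_fst _ _ _).symm sqA
    rw [huV, hu]
    exact IsPullback.of_hasPullback f sV
  haveI : LocallyQuasiFinite uV := MorphismProperty.of_isPullback (P := @LocallyQuasiFinite) sqX ‹_›
  haveI : LocallyOfFiniteType uV := MorphismProperty.of_isPullback (P := @LocallyOfFiniteType) sqX inferInstance
  -- a point of the pullback along `σ` over `x'`
  have sqR : IsPullback (pullback.fst uV σ ≫ pullback.fst f sV) (pullback.snd uV σ) u τ := by
    have := (IsPullback.of_hasPullback uV σ).paste_horiz sqX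
    rwa [sqA.lift_fst] at this
  let m : pullback uV σ ⟶ pullback u g := pullback.lift (pullback.fst uV σ ≫ pullback.fst f sV) (pullback.snd uV σ ≫ ψ)
    (by rw [sqR.w, Category.assoc])
  have sqm : IsPullback m (pullback.snd uV σ) (pullback.snd u g) ψ := by
    refine IsPullback.of_right ?_ (pullback.lift_snd _ _ _) (IsPullback.of_hasPullback u g)
    rw [pullback.lift_fst]
    exact sqR
  obtain ⟨r, hr1, hr2⟩ := Scheme.exists_preimage_of_isPullback sqm x' c hψc.symm
  let xV := pullback.fst uV σ r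
  have hxV : pullback.fst f sV xV = x := by
    rw [← hx', ← hr1]
    show pullback.fst f sV (pullback.fst uV σ r) = pullback.fst u g (m r)
    rw [← Scheme.Hom.comp_apply, ← Scheme.Hom.comp_apply, pullback.lift_fst]
  obtain ⟨z', hz', hz'f, hz't⟩ := exists_lift_trdAt f sV hzx he hmax xV hxV
  obtain ⟨r', hr', hr'η⟩ := exists_generization_valuation (V := V) uV (pullback.snd f sV) huV hz'
    (EGA43.isUnivOpenAt_of_isPullback hz (IsPullback.of_hasPullback f sV) hz'f) (hz't.trans ht) σ r rfl
    (v := η₀) (by rw [hr2]; exact IsLocalRing.specializes_closedPoint _)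
  refine ⟨m r', (hr1 ▸ hr'.map m.continuous : m r' ⤳ x').mem_open hU hxU, ?_⟩
  show pullback.snd u g (m r') = y
  rw [← Scheme.Hom.comp_apply, sqm.w, Scheme.Hom.comp_apply, hr'η, hη₀]

end Groth.Agent.SGA3Homog26
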