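import Groth.Prelude.Def_ChGrp
import Mathlib.AlgebraicGeometry.AlgClosed.Basic
import Mathlib.AlgebraicGeometry.Morphisms.FiniteType
import Mathlib.AlgebraicGeometry.Restrict
import Mathlib.CategoryTheory.Monoidal.Cartesian.Over

/-!
# Homogeneity over an algebraically closed field: properties local at the source spread by translations
-/

set_option autoImplicit false
set_option linter.style.haveILetI false
set_option backward.isDefEq.respectTransparency.types false
universe u

namespace Groth.Agent.SGA3Homog26
open CategoryTheory CategoryTheory.Limits MonoidalCategory CartesianMonoidalCategory MonObj GrpObj AlgebraicGeometry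

/-- Left translation by a section. -/
noncomputable def trans {S : Scheme.{u}} {G : Over S} [GrpObj G] (x : 𝟙_ (Over S) ⟶ G) : G ≅ G where
  hom := (toUnit G ≫ x) * 𝟙 G
  inv := (toUnit G ≫ x⁻¹) * 𝟙 G
  hom_inv_id := by simp [MonObj.comp_mul, GrpObj.comp_inv, toUnit_unique (_ ≫ toUnit G) (toUnit G), ← Category.assoc]
  inv_hom_id := by simp [MonObj.comp_mul, GrpObj.comp_inv, toUnit_unique (_ ≫ toUnit G) (toUnit G), ← Category.assoc]

theorem trans_comp {S : Scheme.{u}} {G H : Over S} [GrpObj G] [GrpObj H] (u : G ⟶ H) [IsMonHom u]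
    (x : 𝟙_ (Over S) ⟶ G) : (trans x).hom ≫ u = u ≫ (trans (x ≫ u)).hom := by
  simp [trans, MonObj.mul_comp, MonObj.comp_mul, toUnit_unique (u ≫ toUnit H) (toUnit G), ← Category.assoc]

/-- Over an algebraically closed field a property local at the source which a homomorphism has on a
non-empty open subscheme holds everywhere. -/
theorem of_open_algClosed (P : MorphismProperty Scheme.{u}) [IsZariskiLocalAtSource P]
    (k : Type u) [Field k] [IsAlgClosed k] (G H : Over (Spec (CommRingCat.of k))) [GrpObj G] [GrpObj H]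
    [LocallyOfFiniteType G.hom] (u : G ⟶ H) [IsMonHom u] (W : G.left.Opens) (hW : (W : Set G.left).Nonempty)
    (h : P (W.ι ≫ u.left)) : P u.left := by
  have key : ∀ x : 𝟙_ (Over (Spec (CommRingCat.of k))) ⟶ G, P (((trans x).hom.left ⁻¹ᵁ W).ι ≫ u.left) := by
    intro x
    haveI : IsIso (trans x).hom.left := inferInstanceAs (IsIso ((Over.forget _).map (trans x).hom))
    haveI : IsIso (trans (x ≫ u)).hom.left := inferInstanceAs (IsIso ((Over.forget _).map (trans (x ≫ u)).hom))
    rw [← P.cancel_right_of_respectsIso _ (trans (x ≫ u)).hom.left, Category.assoc,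
      ← Over.comp_left, ← trans_comp, Over.comp_left, ← morphismRestrict_ι_assoc, P.cancel_left_of_respectsIso]
    exact h
  haveI : JacobsonSpace G.left := LocallyOfFiniteType.jacobsonSpace G.hom
  obtain ⟨w, hwW, hwc⟩ := nonempty_inter_closedPoints hW W.2.isLocallyClosed
  rw [mem_closedPoints_iff] at hwc
  let V := ⨆ x : 𝟙_ (Over (Spec (CommRingCat.of k))) ⟶ G, (trans x).hom.left ⁻¹ᵁ W
  have hV : ∀ y, y ∈ V := by
    by_contra hne
    rw [not_forall] at hne
    obtain ⟨y, hy, hyc⟩ := nonempty_inter_closedPoints (Z := (V : Set G.left)ᶜ) hne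
      V.2.isClosed_compl.isLocallyClosed
    rw [mem_closedPoints_iff] at hyc
    let a : 𝟙_ (Over (Spec (CommRingCat.of k))) ⟶ G := Over.homMk (pointOfClosedPoint G.hom y hyc) (by simp)
    let b : 𝟙_ (Over (Spec (CommRingCat.of k))) ⟶ G := Over.homMk (pointOfClosedPoint G.hom w hwc) (by simp)
    let c := b * a⁻¹
    have e : a ≫ (trans c).hom = b := by
      simp [trans, c, MonObj.comp_mul, toUnit_unique (a ≫ toUnit G) (𝟙 _), ← Category.assoc]
    refine hy (TopologicalSpace.Opens.mem_iSup.2 ⟨c, ?_⟩)
    show (trans c).hom.left y ∈ W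
    let p : Spec (CommRingCat.of k) := IsLocalRing.closedPoint k
    have ha : a.left p = y := pointOfClosedPoint_apply G.hom y hyc p
    have hb : b.left p = w := pointOfClosedPoint_apply G.hom w hwc p
    have h2 : (trans c).hom.left (a.left p) = b.left p := congrArg (fun f => f.left p) e
    rw [← ha, h2, hb]
    exact hwW
  exact IsZariskiLocalAtSource.of_iSup_eq_top
    (fun x : 𝟙_ (Over (Spec (CommRingCat.of k))) ⟶ G => (trans x).hom.left ⁻¹ᵁ W)
    (top_unique fun y _ => hV y) key

end Groth.Agent.SGA3Homog26
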